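import Mathlib
import Cfsg.Prelude.Def_FusionSystem
import Cfsg.Prelude.Def_FusionComponents
import Cfsg.Agent.Lib.Helper3.PPrimeRes
import Cfsg.Agent.Lib.Helper25.FusionInvariant
import Cfsg.Agent.Lib.Helper26.FusionRestrict
import Cfsg.Agent.Lib.OPE.OPEDefs
import Cfsg.Agent.Lib.OPE.OPECent

/-!
# S5141 (design helper25): `O^{p'}(E)` is normal in `F` for `E` weakly normal in `F` over `T`  (`Lib/WNR`)

NOTATION. `F` saturated over `S`, `T ≤ S` strongly closed in `F`, `C := centralizerIn S T = C_S(T)`, `E` saturated and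
invariant in `F` over `T`.

`HasLift F T P φ` (`φ : P →* Ω`, in use `P ≤ T`): some map `ψ` of `F` on `P ⊔ C` agrees with `φ` on `P` and moves every
`c ∈ C` by an element of `T` (`c⁻¹ ψ(c) ∈ T`).

PLAN.  `DW := {φ ∈ E | P E-centric → HasLift F T P φ}` is a fusion system over `T` (`WNRDefs`), and `Adm E p DW`
(`Helper3.PPrimeRes.Adm`), hence `D ≤ minSys E p ≤ DW`, so every `α ∈ Aut_D(T)` has a lift: this IS the extension
clause of `IsNormalIn` (`WNRTop`).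
* `Adm.op` (`WNROp`): a `p`-element `γ` of `Aut_E(P)`, `P` `E`-centric: move `P` to a fully `F`-normalized `P*` by a map
  `μ` of `F` defined on `N_S(P) ≥ P ⊔ C`; `γ* = μγμ⁻¹ ∈ Aut_E(P*)` (invariance); `P*` is fully `E`-normalized
  (`WNRAsch`), so `δγ*δ⁻¹ = c_g`, `g ∈ N_T(P*)`, `δ ∈ Aut_E(P*)`; `δ` extends to `P* C_S(P*)` (`P*` receptive in `F`);
  `ν := δ^ ∘ μ` on `P ⊔ C`, and `ν⁻¹ c_g ν` is the lift (`WNRTrans`).
* `Adm.ext` (`WNRAdm`): as in `OPEAdm`, with `star_gen` replaced by `WNRStarG`: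
  `α ∈ Aut_E(T)`, `P` `E`-centric, `HasLift (α|P)` ⟹ `HasLift α`.
* `WNRStarP` (KEY, `α ∈ Aut_F(T)` of order prime to `p`): take an extension `a ∈ Aut_F(T ⊔ C)` of `α` of order `k` prime to
  `p` (`WNRPExt`).  Invariant `M R ξ`: `ξ ∈ Aut_F(R ⊔ C)` fixes `R` pointwise and `c⁻¹ a(ξ c) ∈ T` for `c ∈ C`.
  Base (`WNRBase`): `ξ := a⁻¹ ∘ (lift of α|P)`.  Step `R → N_T(R)` (`WNRStep` + `WNRPow`): `ξ` extends to
  `ξ' ∈ Aut_F(N_T(R) ⊔ C)` (conjugate `R ⊔ C` to a fully normalized subgroup; `[ξ, c_y]` lies in a normal `p`-subgroup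
  of the automizer, hence in `Aut_S`; receptivity); `ξ'` moves `y ∈ N_T(R)` by an element of `Z(R)`, so `ξ'^j`
  (`j ≡ 0 mod |T|`, `j ≡ 1 mod k`) fixes `N_T(R)` pointwise and still satisfies the `C`-condition.  At `R = T`
  (`WNREnd`): `a ∘ ξ` is the lift of `α`.
* Weak normality of `D` in `F` (`WNRInvC`, `WNRWn`): `invCore (resSys F T) (minSys E p)` is `Adm`; Frattini by S5114.
-/

set_option autoImplicit false

namespace Cfsg.Agent.Helper25.WNR

open Cfsg Cfsg.FusionSystem Cfsg.Agent.Helper25 Cfsg.Agent.Helper26 Cfsg.Agent.Helper3.PPrimeRes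

variable {Ω : Type*} [Group Ω] {S : Subgroup Ω}

/-- `φ : P →* Ω` has a lift to `P ⊔ C_S(T)` in `F` which moves every element of `C_S(T)` by an element of `T`. -/
def HasLift (F : FusionSystem S) (T P : Subgroup Ω) (φ : P →* Ω) : Prop :=
  ∃ ψ ∈ F.Hom (P ⊔ centralizerIn S T),
    (∀ x : P, ψ (Subgroup.inclusion le_sup_left x) = φ x) ∧
    ∀ c : ↥(P ⊔ centralizerIn S T), (c : Ω) ∈ centralizerIn S T → (c : Ω)⁻¹ * ψ c ∈ T

theorem sup_cent_le {T P : Subgroup Ω} (hTS : T ≤ S) (hPT : P ≤ T) : P ⊔ centralizerIn S T ≤ S :=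
  sup_le (hPT.trans hTS) inf_le_left

theorem mem_cent_comm {T : Subgroup Ω} {c t : Ω} (hc : c ∈ centralizerIn S T) (ht : t ∈ T) :
    t * c = c * t :=
  (Subgroup.mem_centralizer_iff.mp hc.2) t ht

end Cfsg.Agent.Helper25.WNR
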