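import Mathlib
import Cfsg.Agent.Lib.WNR.WNRLift

/-!
# S5141 piece WNR-COMP: lifts compose (on subgroups whose image is self-centralizing in `T`)
`φ : P → Q`, `ψ : Q → T`, `P ≤ Q'`… all inside `T`; `hcen : C_T(φ(P)) ≤ φ(P)`.
RECIPE. Take lifts `φ^ ∈ F.Hom (P ⊔ C)`, `ψ^ ∈ F.Hom (Q ⊔ C)` (`C := centralizerIn S T`).
(1) `∀ y, φ^ y ∈ Q ⊔ C`: the subgroup `(Q ⊔ C).comap φ^` of `↥(P ⊔ C)` contains `P.subgroupOf _` (values `φ x ∈ Q`) and
`C.subgroupOf _`: for `c ∈ C`, `t := c⁻¹ * φ^ c ∈ T` commutes with every `φ x` (`c` commutes with `φ x ∈ T` and with `x ∈ T`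
by `mem_cent_comm`, and `φ^` is a homomorphism with `φ^ x = φ x`), so `t ∈ centralizerIn T φ.range ≤ φ.range ≤ Q` and
`φ^ c = c * t ∈ Q ⊔ C`.  Conclude with `Subgroup.sup_subgroupOf_eq`/`Subgroup.subgroupOf_self` or by `Subgroup.closure`/`sup`
induction (`Subgroup.sup_induction`, `Subgroup.mem_sup` need normality: avoid; use the comap argument).
(2) the lift of `ψ ∘ φ` is `ψ^.comp (φ^.codRestrict (Q ⊔ C) _)` (`F.comp_mem`).  On `P` it is `ψ (φ x)`.  For `c ∈ C`: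
`c⁻¹ ψ^(φ^ c) = c⁻¹ ψ^(c * t) = (c⁻¹ ψ^ c) * ψ^ t`, `ψ^ t = ψ ⟨t, _⟩ ∈ T` (`hψT`), product of two elements of `T`.
Aux names: prefix `wnrcomp_`.
-/

set_option autoImplicit false

namespace Cfsg.Agent.Helper25.WNR

open Cfsg Cfsg.FusionSystem Cfsg.Agent.Helper25 Cfsg.Agent.Helper26 Cfsg.Agent.Helper3.PPrimeRes

variable {Ω : Type*} [Group Ω] {S : Subgroup Ω}

theorem hasLift_comp (F : FusionSystem S) {T : Subgroup Ω} (hTS : T ≤ S) {P Q : Subgroup Ω} (hPT : P ≤ T)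
    (hQT : Q ≤ T) {φ : P →* Ω} {ψ : Q →* Ω} (h : ∀ x : P, φ x ∈ Q) (hψT : ∀ y : Q, ψ y ∈ T)
    (hcen : centralizerIn T φ.range ≤ φ.range) (h1 : HasLift F T P φ) (h2 : HasLift F T Q ψ) :
    HasLift F T P (ψ.comp (φ.codRestrict Q h)) := by
  obtain ⟨φh, hφh, hφhP, hφhC⟩ := h1
  obtain ⟨ψh, hψh, hψhQ, hψhC⟩ := h2
  -- key: `φh c = c * t` with `t ∈ φ.range`
  have key : ∀ c : ↥(P ⊔ centralizerIn S T), (c : Ω) ∈ centralizerIn S T →
      ∃ x₀ : P, φh c = (c : Ω) * φ x₀ := by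
    intro c hc
    have htT : (c : Ω)⁻¹ * φh c ∈ T := hφhC c hc
    have htc : (c : Ω)⁻¹ * φh c ∈ centralizerIn T φ.range := by
      refine ⟨htT, Subgroup.mem_centralizer_iff.mpr ?_⟩
      rintro _ ⟨x, rfl⟩
      have e1 : Subgroup.inclusion (le_sup_left : P ≤ P ⊔ centralizerIn S T) x * c =
          c * Subgroup.inclusion (le_sup_left : P ≤ P ⊔ centralizerIn S T) x :=
        Subtype.ext (mem_cent_comm hc (hPT x.2))
      have e2 := congrArg φh e1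
      rw [map_mul, map_mul, hφhP] at e2
      have e3 : φ x * (c : Ω) = (c : Ω) * φ x := mem_cent_comm hc (hQT (h x))
      have e4 : φ x * (c : Ω)⁻¹ = (c : Ω)⁻¹ * φ x := by
        have : (c : Ω)⁻¹ * (φ x * (c : Ω)) * (c : Ω)⁻¹ = (c : Ω)⁻¹ * ((c : Ω) * φ x) * (c : Ω)⁻¹ := by
          rw [e3]
        simpa [mul_assoc] using this.symm
      calc φ x * ((c : Ω)⁻¹ * φh c) = (φ x * (c : Ω)⁻¹) * φh c := by rw [mul_assoc]
        _ = (c : Ω)⁻¹ * (φ x * φh c) := by rw [e4, mul_assoc]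
        _ = (c : Ω)⁻¹ * (φh c * φ x) := by rw [e2]
        _ = (c : Ω)⁻¹ * φh c * φ x := by rw [mul_assoc]
    obtain ⟨x₀, hx₀⟩ := hcen htc
    refine ⟨x₀, ?_⟩
    rw [hx₀]
    group
  -- (1) values of `φh`
  have hval : ∀ y : ↥(P ⊔ centralizerIn S T), φh y ∈ Q ⊔ centralizerIn S T := by
    have hK : (⊤ : Subgroup ↥(P ⊔ centralizerIn S T)) ≤ (Q ⊔ centralizerIn S T).comap φh := by
      rw [← Subgroup.subgroupOf_self (P ⊔ centralizerIn S T),
        Subgroup.subgroupOf_sup le_sup_left le_sup_right]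
      apply sup_le
      · intro y hy
        have hy' : (y : Ω) ∈ P := Subgroup.mem_subgroupOf.mp hy
        have e : y = Subgroup.inclusion le_sup_left ⟨(y : Ω), hy'⟩ := Subtype.ext rfl
        show φh y ∈ Q ⊔ centralizerIn S T
        rw [e, hφhP]
        exact Subgroup.mem_sup_left (h _)
      · intro c hc
        have hc' : (c : Ω) ∈ centralizerIn S T := Subgroup.mem_subgroupOf.mp hc
        obtain ⟨x₀, hx₀⟩ := key c hc'
        show φh c ∈ Q ⊔ centralizerIn S T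
        rw [hx₀]
        exact Subgroup.mul_mem _ (Subgroup.mem_sup_right hc') (Subgroup.mem_sup_left (h x₀))
    exact fun y => hK (Subgroup.mem_top y)
  refine ⟨ψh.comp (φh.codRestrict (Q ⊔ centralizerIn S T) hval), F.comp_mem hφh hψh hval, ?_, ?_⟩
  · intro x
    show ψh ⟨φh (Subgroup.inclusion le_sup_left x), hval _⟩ = ψ ⟨φ x, h x⟩
    have e : (⟨φh (Subgroup.inclusion le_sup_left x), hval _⟩ : ↥(Q ⊔ centralizerIn S T)) =
        Subgroup.inclusion le_sup_left ⟨φ x, h x⟩ := Subtype.ext (hφhP x)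
    rw [e, hψhQ]
  · intro c hc
    obtain ⟨x₀, hx₀⟩ := key c hc
    show (c : Ω)⁻¹ * ψh ⟨φh c, hval c⟩ ∈ T
    have e : (⟨φh c, hval c⟩ : ↥(Q ⊔ centralizerIn S T)) =
        ⟨(c : Ω), Subgroup.mem_sup_right hc⟩ *
          Subgroup.inclusion le_sup_left ⟨φ x₀, h x₀⟩ := Subtype.ext hx₀
    rw [e, map_mul, hψhQ, ← mul_assoc]
    exact T.mul_mem (hψhC ⟨(c : Ω), Subgroup.mem_sup_right hc⟩ hc) (hψT _)

end Cfsg.Agent.Helper25.WNR
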