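import Mathlib
import Cfsg.Agent.Lib.WNR.WNRLift

/-!
# S5141 piece WNR-CONJ: conjugation by an element of `T` has a lift
RECIPE. `ψ := conjHom (P ⊔ centralizerIn S T) g`, a map of `F` by `F.conj_mem (sup_cent_le hTS hPT) (hTS hg)`.
It agrees with `conjHom P g` on `P` (`rfl`/`conjHom_apply`).  For `c ∈ C_S(T)`: `g * c = c * g` (`mem_cent_comm`), so
`c⁻¹ * (g * c * g⁻¹) = 1 ∈ T`.  Aux names: prefix `wnrconj_`.
-/

set_option autoImplicit false

namespace Cfsg.Agent.Helper25.WNR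

open Cfsg Cfsg.FusionSystem Cfsg.Agent.Helper25 Cfsg.Agent.Helper26 Cfsg.Agent.Helper3.PPrimeRes

variable {Ω : Type*} [Group Ω] {S : Subgroup Ω}

theorem hasLift_conj (F : FusionSystem S) {T : Subgroup Ω} (hTS : T ≤ S) {P : Subgroup Ω} (hPT : P ≤ T)
    {g : Ω} (hg : g ∈ T) : HasLift F T P (conjHom P g) := by
  refine ⟨conjHom (P ⊔ centralizerIn S T) g, F.conj_mem (sup_cent_le hTS hPT) (hTS hg), ?_, ?_⟩
  · intro x
    rfl
  · intro c hc
    rw [conjHom_apply, mem_cent_comm hc hg]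
    have h1 : (c : Ω)⁻¹ * ((c : Ω) * g * g⁻¹) = 1 := by group
    rw [h1]
    exact T.one_mem

end Cfsg.Agent.Helper25.WNR
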