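import Mathlib
import Cfsg.Agent.Lib.WNR.WNRLift

/-!
# S5141 piece WNR-INV: the inverse of a map with a lift has a lift
RECIPE. Lift `φ^ ∈ F.Hom (P ⊔ C)` of `φ` (`C := centralizerIn S T`).  As in WNR-COMP: for `c ∈ C`, `t := c⁻¹ * φ^ c ∈ T`
commutes with all `φ x`, so `t ∈ centralizerIn T φ.range ≤ φ.range`, `t = φ x₀ = φ^ x₀`, and `c = φ^ (c * x₀⁻¹)`.  Hence
`φ.range ⊔ C ≤ φ^.range` (`sup_le`).  `F.inv_mem` gives `θ ∈ F.Hom φ^.range` with `θ (φ^ y) = y`; the lift of `ψ` is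
`θ.comp (Subgroup.inclusion hle)` (`restrict_mem`).  On `φ x`: `θ (φ^ x) = x = ψ (φ x)`.  For `c ∈ C`:
`c⁻¹ * θ c = c⁻¹ * (c * x₀⁻¹) = x₀⁻¹ ∈ P ≤ T`.  Use `hom_congr_val` to rewrite arguments of `θ`.
Aux names: prefix `wnrinv_`.
-/

set_option autoImplicit false

namespace Cfsg.Agent.Helper25.WNR

open Cfsg Cfsg.FusionSystem Cfsg.Agent.Helper25 Cfsg.Agent.Helper26 Cfsg.Agent.Helper3.PPrimeRes

variable {Ω : Type*} [Group Ω] {S : Subgroup Ω}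

theorem hasLift_inv (F : FusionSystem S) {T : Subgroup Ω} (hTS : T ≤ S) {P : Subgroup Ω} (hPT : P ≤ T)
    {φ : P →* Ω} (hφT : ∀ x : P, φ x ∈ T) (hcen : centralizerIn T φ.range ≤ φ.range)
    (h1 : HasLift F T P φ) (ψ : φ.range →* Ω) (hinv : ∀ x : P, ψ ⟨φ x, ⟨x, rfl⟩⟩ = (x : Ω)) :
    HasLift F T φ.range ψ := by
  obtain ⟨φh, hφh, hφhP, hφhC⟩ := h1
  have key : ∀ c ∈ centralizerIn S T, ∃ x₀ : P, ∃ w : ↥(P ⊔ centralizerIn S T),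
      φh w = c ∧ (w : Ω) = c * (x₀ : Ω)⁻¹ := by
    intro c hc
    have hcmem : c ∈ P ⊔ centralizerIn S T :=
      (le_sup_right : centralizerIn S T ≤ P ⊔ centralizerIn S T) hc
    have ht : c⁻¹ * φh ⟨c, hcmem⟩ ∈ T := hφhC ⟨c, hcmem⟩ hc
    have hcomm : ∀ x : P, φ x * φh ⟨c, hcmem⟩ = φh ⟨c, hcmem⟩ * φ x := by
      intro x
      have e : Subgroup.inclusion le_sup_left x * (⟨c, hcmem⟩ : ↥(P ⊔ centralizerIn S T)) =
          ⟨c, hcmem⟩ * Subgroup.inclusion le_sup_left x :=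
        Subtype.ext (mem_cent_comm hc (hPT x.2))
      have e2 := congrArg φh e
      rw [map_mul, map_mul, hφhP] at e2
      exact e2
    have htc : c⁻¹ * φh ⟨c, hcmem⟩ ∈ centralizerIn T φ.range := by
      refine ⟨ht, Subgroup.mem_centralizer_iff.mpr ?_⟩
      rintro _ ⟨x, rfl⟩
      have h3 : φ x * c = c * φ x := mem_cent_comm hc (hφT x)
      have h2 : φ x * c⁻¹ = c⁻¹ * φ x := by
        calc φ x * c⁻¹ = c⁻¹ * (c * φ x) * c⁻¹ := by group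
          _ = c⁻¹ * (φ x * c) * c⁻¹ := by rw [h3]
          _ = c⁻¹ * φ x := by group
      calc φ x * (c⁻¹ * φh ⟨c, hcmem⟩) = (φ x * c⁻¹) * φh ⟨c, hcmem⟩ := by rw [mul_assoc]
        _ = c⁻¹ * (φ x * φh ⟨c, hcmem⟩) := by rw [h2, mul_assoc]
        _ = c⁻¹ * φh ⟨c, hcmem⟩ * φ x := by rw [hcomm x, mul_assoc]
    obtain ⟨x₀, hx₀⟩ := MonoidHom.mem_range.mp (hcen htc)
    refine ⟨x₀, ⟨c, hcmem⟩ * (Subgroup.inclusion le_sup_left x₀)⁻¹, ?_, rfl⟩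
    rw [map_mul, map_inv, hφhP, hx₀]
    group
  have hle : φ.range ⊔ centralizerIn S T ≤ φh.range := by
    refine sup_le ?_ ?_
    · rintro _ ⟨x, rfl⟩
      exact ⟨Subgroup.inclusion le_sup_left x, hφhP x⟩
    · intro c hc
      obtain ⟨x₀, w, hw, -⟩ := key c hc
      exact ⟨w, hw⟩
  obtain ⟨θ, hθ, hθinv⟩ := F.inv_mem hφh
  refine ⟨θ.comp (Subgroup.inclusion hle), restrict_mem F hle hθ, ?_, ?_⟩
  · rintro ⟨_, x, rfl⟩
    have e1 : (θ.comp (Subgroup.inclusion hle))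
        (Subgroup.inclusion le_sup_left (⟨φ x, ⟨x, rfl⟩⟩ : ↥φ.range)) =
        θ ⟨φh (Subgroup.inclusion le_sup_left x), ⟨_, rfl⟩⟩ :=
      hom_congr_val θ _ _ (hφhP x).symm
    rw [e1, hθinv, hinv x]
    rfl
  · intro c hc
    obtain ⟨x₀, w, hw, hwv⟩ := key (c : Ω) hc
    have h5 : (θ.comp (Subgroup.inclusion hle)) c = (w : Ω) := by
      rw [← hθinv w]
      exact hom_congr_val θ _ _ hw.symm
    rw [h5, hwv]
    have e3 : (c : Ω)⁻¹ * ((c : Ω) * (x₀ : Ω)⁻¹) = (x₀ : Ω)⁻¹ := by group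
    rw [e3]
    exact T.inv_mem (hPT x₀.2)

end Cfsg.Agent.Helper25.WNR
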