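import Mathlib
import Cfsg.Agent.Lib.WNR.WNRConj
import Cfsg.Agent.Lib.WNR.WNRComp
import Cfsg.Agent.Lib.WNR.WNRInv
import Cfsg.Agent.Lib.Helper25.FusionAlperin2
import Cfsg.Agent.Lib.Helper25.FusionPrimeIndex2

/-!
# S5141: the subsystem `DW` of `E`: maps of `E` which have a lift whenever their source is `E`-centric.
-/

set_option autoImplicit false

namespace Cfsg.Agent.Helper25.WNR

open Cfsg Cfsg.FusionSystem Cfsg.Agent.Helper25 Cfsg.Agent.Helper26 Cfsg.Agent.Helper3.PPrimeRes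

variable {Ω : Type*} [Group Ω] {S : Subgroup Ω}

/-- The maps of `E` that have a lift (`HasLift`) whenever their source is `E`-centric. -/
def DW (F : FusionSystem S) {T : Subgroup Ω} (hTS : T ≤ S) (E : FusionSystem T) : FusionSystem T :=
  predSub E (fun P φ => E.IsCentric P → HasLift F T P φ)
    (fun hP hg _ => hasLift_conj F hTS hP hg)
    (by
      intro P Q φ ψ hφ hψ h1 h2 h hPc
      have hRc : E.IsCentric φ.range := isCentric_of_isConj E hPc ⟨φ, hφ, rfl⟩
      have hQT : Q ≤ T := (E.le_of_mem hψ).1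
      have hle : φ.range ≤ Q := by rintro _ ⟨x, rfl⟩; exact h x
      have hQc : E.IsCentric Q := isCentric_of_le E hle hQT hRc
      exact hasLift_comp F hTS hPc.1 hQT h (E.le_of_mem hψ).2
        (hRc.2 _ (isConj_refl E hRc.1)) (h1 hPc) (h2 hQc))
    (by
      intro P φ hφ h1 ψ hψ hinv hRc
      have hPc : E.IsCentric P := isCentric_of_isConj E hRc (isConj_symm E ⟨φ, hφ, rfl⟩)
      exact hasLift_inv F hTS hPc.1 (E.le_of_mem hφ).2 (hRc.2 _ (isConj_refl E hRc.1)) (h1 hPc) ψ hinv)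

theorem mem_DW {F : FusionSystem S} {T : Subgroup Ω} {hTS : T ≤ S} {E : FusionSystem T} {P : Subgroup Ω}
    {φ : P →* Ω} : φ ∈ (DW F hTS E).Hom P ↔ φ ∈ E.Hom P ∧ (E.IsCentric P → HasLift F T P φ) := Iff.rfl

theorem DW_le (F : FusionSystem S) {T : Subgroup Ω} (hTS : T ≤ S) (E : FusionSystem T) :
    (DW F hTS E).IsSubsystemOf E := fun _ _ h => h.1

end Cfsg.Agent.Helper25.WNR
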