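import Mathlib
import Cfsg.Agent.Lib.WNR.WNRLift
import Cfsg.Agent.Lib.Helper25.FusionSat3
import Cfsg.Agent.Lib.Helper25.FusionSat

/-!
# S5141 piece WNR-ALIFT: an automorphism in `F` of a fully normalized `Q` extends to `Q ⊔ C_S(Q)`
RECIPE. `δ' := Q.subtype.comp δ.toMonoidHom ∈ F.Hom Q` (`mem_autGroup_iff F hQ.1 δ`), `δ'.range = Q` (`δ` is onto).
`(of_fullyNormalized p hS F hF hQ).2.2 : F.IsReceptive Q` gives `ψ ∈ F.Hom (extender S Q δ')` agreeing with `δ'` on `Q`.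
`Q ≤ extender S Q δ'` (`le_extender F hδ'`) and `centralizerIn S Q ≤ extender S Q δ'` (`centralizerIn_le_extender δ'`;
check its hypotheses in `Lib/Helper25/FusionSat.lean`), so `Q ⊔ centralizerIn S Q ≤ extender S Q δ'`; restrict
(`restrict_mem`).  Aux names: prefix `wnralift_`.
-/

set_option autoImplicit false

namespace Cfsg.Agent.Helper25.WNR

open Cfsg Cfsg.FusionSystem Cfsg.Agent.Helper25 Cfsg.Agent.Helper26 Cfsg.Agent.Helper3.PPrimeRes

variable {Ω : Type*} [Group Ω] {S : Subgroup Ω}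

theorem exists_aut_ext [Finite S] (p : ℕ) [Fact p.Prime] (hS : IsPGroup p S) (F : FusionSystem S)
    (hF : F.IsSaturated p) {Q : Subgroup Ω} (hQ : F.IsFullyNormalized Q) {δ : MulAut Q}
    (hδ : δ ∈ F.autGroup Q) :
    ∃ ψ ∈ F.Hom (Q ⊔ centralizerIn S Q),
      ∀ y : Q, ψ (Subgroup.inclusion le_sup_left y) = ((δ y : Q) : Ω) := by
  have hQS : Q ≤ S := hQ.1
  have hδ' : Q.subtype.comp δ.toMonoidHom ∈ F.Hom Q := (mem_autGroup_iff F hQS δ).mp hδ
  have hrange : (Q.subtype.comp δ.toMonoidHom).range = Q := by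
    ext x
    constructor
    · rintro ⟨y, rfl⟩
      exact (δ y).2
    · intro hx
      exact ⟨δ.symm ⟨x, hx⟩, by simp⟩
  obtain ⟨ψ, hψ, hψQ⟩ :=
    (of_fullyNormalized p hS F hF hQ).2.2.2 Q (Q.subtype.comp δ.toMonoidHom) hδ' hrange
  have hle : Q ⊔ centralizerIn S Q ≤ extender S Q (Q.subtype.comp δ.toMonoidHom) :=
    sup_le (le_extender F hδ') (centralizerIn_le_extender _)
  refine ⟨ψ.comp (Subgroup.inclusion hle), restrict_mem F hle hψ, fun y => ?_⟩
  have := hψQ (y : Ω) y.2 (hle (Subgroup.mem_sup_left y.2))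
  exact this

end Cfsg.Agent.Helper25.WNR
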