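import Mathlib
import Cfsg.Agent.Lib.WNR.WNRLift
import Cfsg.Agent.Lib.CSE.CSEFnMap
import Cfsg.Agent.Lib.OPE.OPEPull

/-!
# S5141 piece WNR-NUA: transport an automorphism `γ ∈ Aut_E(P)` to a fully `F`-normalized conjugate of `P`
RECIPE. `hT := hEinv.2.1`, `hPS := hPT.trans hT.1`.  `Helper3.CSE.exists_fn_map p hS F hF hPS` gives `R'`, `μ ∈ F.Hom (normalizerIn S P)`,
`F.IsFullyNormalized R'`, `(P.subgroupOf _).map μ = R'`.  Let `φ := μ.comp (Subgroup.inclusion (le_normalizerIn hPS)) ∈ F.Hom P`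
(`restrict_mem`); `φ.range = R'` (from the `map` equation).  Take `Q := φ.range` (rewrite `IsFullyNormalized` along the equality),
`Q ≤ T` by `hT.2 P hPT φ hφ`.  `γ' := MulAut.congr (homEquiv F hφ) γ`; `orderOf γ' = orderOf γ` (`MulEquiv.orderOf_eq`, as in `OPE.op_mem`);
`γ' (φ x) = φ (γ x)` (unfold `MulAut.congr`, `homEquiv_apply_coe`, `MulEquiv.symm_apply_apply`).
`γ' ∈ E.autGroup Q`: `mem_autGroup_iff E hQT`, then `OPE.pull_aut F E hEinv hθ hc γ' _` where `θ ∈ F.Hom φ.range` is the inverse of `φ`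
(`F.inv_mem hφ`: `θ (φ x) = x`), `θ.range ≤ P`, and `c := (P.subtype.comp γ.toMonoidHom).comp (Subgroup.inclusion hle) ∈ E.Hom θ.range`
(`restrict_mem E` of `(mem_autGroup_iff E hPT γ).mp hγ`); the required identity `c (θ y) = θ (γ' y)` for `y = φ x` reads
`γ x = θ (φ (γ x))`.  Aux names: prefix `wnrnua_`.
-/

set_option autoImplicit false

namespace Cfsg.Agent.Helper25.WNR

open Cfsg Cfsg.FusionSystem Cfsg.Agent.Helper25 Cfsg.Agent.Helper26 Cfsg.Agent.Helper3.PPrimeRes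

variable {Ω : Type*} [Group Ω] {S : Subgroup Ω}

theorem exists_transport [Finite S] (p : ℕ) [Fact p.Prime] (hS : IsPGroup p S) (F : FusionSystem S)
    (hF : F.IsSaturated p) {T : Subgroup Ω} (E : FusionSystem T) (hEinv : E.IsInvariantIn F)
    {P : Subgroup Ω} (hPT : P ≤ T) {γ : MulAut P} (hγ : γ ∈ E.autGroup P) :
    ∃ (μ : ↥(normalizerIn S P) →* Ω) (Q : Subgroup Ω) (γ' : MulAut Q),
      μ ∈ F.Hom (normalizerIn S P) ∧ F.IsFullyNormalized Q ∧ Q ≤ T ∧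
      (∀ x : P, μ ⟨x, le_normalizerIn (hPT.trans hEinv.2.1.1) x.2⟩ ∈ Q) ∧
      (∀ y : Q, ∃ x : P, μ ⟨x, le_normalizerIn (hPT.trans hEinv.2.1.1) x.2⟩ = (y : Ω)) ∧
      γ' ∈ E.autGroup Q ∧ orderOf γ' = orderOf γ ∧
      ∀ (x : P) (hx : μ ⟨x, le_normalizerIn (hPT.trans hEinv.2.1.1) x.2⟩ ∈ Q),
        ((γ' ⟨μ ⟨x, le_normalizerIn (hPT.trans hEinv.2.1.1) x.2⟩, hx⟩ : Q) : Ω) =
          μ ⟨γ x, le_normalizerIn (hPT.trans hEinv.2.1.1) (γ x).2⟩ := by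
  have hT := hEinv.2.1
  have hPS : P ≤ S := hPT.trans hT.1
  obtain ⟨R', μ, hfn, hμ, hmap⟩ := Cfsg.Agent.Helper3.CSE.exists_fn_map p hS F hF hPS
  obtain ⟨φ, hφdef⟩ : ∃ φ : P →* Ω, φ = μ.comp (Subgroup.inclusion (le_normalizerIn hPS)) :=
    ⟨_, rfl⟩
  have hφ : φ ∈ F.Hom P := by
    rw [hφdef]; exact restrict_mem F (le_normalizerIn hPS) hμ
  have hφv : ∀ x : P, μ ⟨x, le_normalizerIn (hPT.trans hEinv.2.1.1) x.2⟩ = φ x := fun x => by
    rw [hφdef]; rfl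
  have hrange : φ.range = R' := by
    rw [← hmap]
    ext y
    constructor
    · rintro ⟨x, rfl⟩
      refine ⟨⟨x, le_normalizerIn hPS x.2⟩, ?_, (hφv x)⟩
      exact Subgroup.mem_subgroupOf.mpr x.2
    · rintro ⟨z, hz, rfl⟩
      have hzP : (z : Ω) ∈ P := Subgroup.mem_subgroupOf.mp hz
      refine ⟨⟨z, hzP⟩, ?_⟩
      rw [← hφv]
  have hQT : φ.range ≤ T := by
    rintro _ ⟨x, rfl⟩
    exact hT.2 P hPT φ hφ x
  have hfnQ : F.IsFullyNormalized φ.range := by rw [hrange]; exact hfn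
  obtain ⟨θ, hθ, hθe⟩ := exists_inv' F hφ
  have hle : θ.range ≤ P := by
    rintro _ ⟨y, rfl⟩
    rw [hθe]; exact Subtype.property _
  have hγE := (mem_autGroup_iff E hPT γ).mp hγ
  have hc : (P.subtype.comp γ.toMonoidHom).comp (Subgroup.inclusion hle) ∈ E.Hom θ.range :=
    restrict_mem E hle hγE
  have key : ∀ y : φ.range,
      ((P.subtype.comp γ.toMonoidHom).comp (Subgroup.inclusion hle)) ⟨θ y, ⟨y, rfl⟩⟩ =
        θ (MulAut.congr (homEquiv F hφ) γ y) := by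
    intro y
    show ((γ ⟨θ y, hle ⟨y, rfl⟩⟩ : P) : Ω) = θ (MulAut.congr (homEquiv F hφ) γ y)
    rw [hθe (MulAut.congr (homEquiv F hφ) γ y)]
    have h1 : (⟨θ y, hle ⟨y, rfl⟩⟩ : P) = (homEquiv F hφ).symm y := Subtype.ext (hθe y)
    rw [h1]
    show _ = (((homEquiv F hφ).symm (homEquiv F hφ (γ ((homEquiv F hφ).symm y))) : P) : Ω)
    rw [MulEquiv.symm_apply_apply]
  have hγ' : MulAut.congr (homEquiv F hφ) γ ∈ E.autGroup φ.range := by
    rw [mem_autGroup_iff E hQT]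
    exact Cfsg.Agent.Helper25.OPE.pull_aut F E hEinv hθ hc (MulAut.congr (homEquiv F hφ) γ) key
  refine ⟨μ, φ.range, MulAut.congr (homEquiv F hφ) γ, hμ, hfnQ, hQT, ?_, ?_, hγ', ?_, ?_⟩
  · intro x
    rw [hφv]; exact ⟨x, rfl⟩
  · rintro ⟨_, x, rfl⟩
    exact ⟨x, hφv x⟩
  · exact MulEquiv.orderOf_eq (MulAut.congr (homEquiv F hφ)) γ
  · intro x hx
    rw [hφv (γ x)]
    have h2 : (⟨μ ⟨x, le_normalizerIn (hPT.trans hEinv.2.1.1) x.2⟩, hx⟩ : φ.range) =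
        homEquiv F hφ x := Subtype.ext (hφv x)
    rw [h2]
    show ((homEquiv F hφ (γ ((homEquiv F hφ).symm (homEquiv F hφ x))) : φ.range) : Ω) = _
    rw [MulEquiv.symm_apply_apply]
    rfl

end Cfsg.Agent.Helper25.WNR
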