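import Mathlib
import Cfsg.Agent.Lib.WNR.WNRLift
import Cfsg.Agent.Lib.Helper25.FusionSat3
import Cfsg.Agent.Lib.Helper25.FusionRecept

/-!
# S5141 piece WNR-ASCH (Aschbacher): fully `F`-normalized subgroups of `T` are fully `E`-normalized
RECIPE. `⟨hPT, fun Q hQ => ?_⟩`.  `hQ : E.IsConj P Q` gives `F.IsConj P Q` (`hEF`), so `F.IsConj Q P` (`isConj_symm`).
`of_fullyNormalized p hS F hF hP` gives `P` fully automized and receptive in `F`; `exists_normalizer_map p hS F P Q h₁ h₂ _`
gives `φ ∈ F.Hom (normalizerIn S Q)` with values in `normalizerIn S P`.  `normalizerIn T Q ≤ normalizerIn S Q`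
(`hT.1 : T ≤ S`); the restriction of `φ` to `normalizerIn T Q ≤ T` is a map of `F` (`restrict_mem`) with values in `T`
(`hT.2`), hence in `normalizerIn T P = T ⊓ normalizer P`.  It is injective (`F.injective_of_mem`), so
`Nat.card (normalizerIn T Q) ≤ Nat.card (normalizerIn T P)` (`Nat.card_le_card_of_injective`, `Finite` instances via
`finite_of_le_finite`).  Aux names: prefix `wnrasch_`.
-/

set_option autoImplicit false

namespace Cfsg.Agent.Helper25.WNR

open Cfsg Cfsg.FusionSystem Cfsg.Agent.Helper25 Cfsg.Agent.Helper26 Cfsg.Agent.Helper3.PPrimeRes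

variable {Ω : Type*} [Group Ω] {S : Subgroup Ω}

theorem fullyNormalized_of_F [Finite S] (p : ℕ) [Fact p.Prime] (hS : IsPGroup p S) (F : FusionSystem S)
    (hF : F.IsSaturated p) {T : Subgroup Ω} (hT : F.StronglyClosed T) (E : FusionSystem T)
    (hEF : E.IsSubsystemOf F) {P : Subgroup Ω} (hPT : P ≤ T) (hP : F.IsFullyNormalized P) :
    E.IsFullyNormalized P := by
  refine ⟨hPT, fun Q hQ => ?_⟩
  obtain ⟨ε, hε, hεr⟩ := hQ
  have hFc : F.IsConj P Q := ⟨ε, hEF P hε, hεr⟩
  have hQP : F.IsConj Q P := isConj_symm F hFc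
  obtain ⟨-, hfa, hrec⟩ := of_fullyNormalized p hS F hF hP
  obtain ⟨φ, hφ, hφN, -, -⟩ := exists_normalizer_map p hS F P Q hfa hrec hQP
  have hTS : T ≤ S := hT.1
  have hle : normalizerIn T Q ≤ normalizerIn S Q := by
    intro x hx
    rw [mem_normalizerIn] at hx ⊢
    exact ⟨hTS hx.1, hx.2⟩
  have hleT : normalizerIn T Q ≤ T := fun x hx => (mem_normalizerIn.mp hx).1
  have hres : φ.comp (Subgroup.inclusion hle) ∈ F.Hom (normalizerIn T Q) :=
    restrict_mem F hle hφ
  have hval : ∀ x : normalizerIn T Q,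
      (φ.comp (Subgroup.inclusion hle)) x ∈ normalizerIn T P := by
    intro x
    rw [mem_normalizerIn]
    refine ⟨hT.2 _ hleT _ hres x, ?_⟩
    exact (mem_normalizerIn.mp (hφN (Subgroup.inclusion hle x))).2
  haveI : Finite (normalizerIn T P) :=
    finite_of_le_finite (fun x hx => hTS (mem_normalizerIn.mp hx).1)
  refine Nat.card_le_card_of_injective
    (fun x => (⟨(φ.comp (Subgroup.inclusion hle)) x, hval x⟩ : normalizerIn T P)) ?_
  intro a b hab
  have h1 := congrArg Subtype.val hab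
  exact F.injective_of_mem hres h1

end Cfsg.Agent.Helper25.WNR
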