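import Mathlib
import Cfsg.Agent.Lib.WNR.WNRAsch
import Cfsg.Agent.Lib.Helper25.ConjBy

/-!
# S5141 piece WNR-SYL: in a fully `F`-normalized `Q ≤ T`, a `p`-element of `Aut_E(Q)` is `Aut_E(Q)`-conjugate to some `c_g`, `g ∈ T`
RECIPE. `fullyNormalized_of_F` gives `E.IsFullyNormalized Q`; `of_fullyNormalized p (hS.to_le hT.1) E hE _` (with
`Finite T` from `finite_of_le_finite hT.1`) gives `E.IsFullyAutomized p Q`; then copy the Sylow step of `OPE.op_mem`
(`Lib/OPE/OPEOp.lean`): `hsyl := (isFullyAutomized_iff E p hQT).mp hfa`, `hsyl.exists_conj_le` for `Subgroup.zpowers γ`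
(a `p`-group as `orderOf γ = p ^ k`), `mem_conjBy`, `mem_autInducedBy_iff` (gives `g ∈ T` with the values).
Aux names: prefix `wnrsyl_`.
-/

set_option autoImplicit false

namespace Cfsg.Agent.Helper25.WNR

open Cfsg Cfsg.FusionSystem Cfsg.Agent.Helper25 Cfsg.Agent.Helper26 Cfsg.Agent.Helper3.PPrimeRes

variable {Ω : Type*} [Group Ω] {S : Subgroup Ω}

theorem exists_conj_T [Finite S] (p : ℕ) [Fact p.Prime] (hS : IsPGroup p S) (F : FusionSystem S)
    (hF : F.IsSaturated p) {T : Subgroup Ω} (hT : F.StronglyClosed T) (E : FusionSystem T)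
    (hE : E.IsSaturated p) (hEF : E.IsSubsystemOf F) {Q : Subgroup Ω} (hQT : Q ≤ T)
    (hQ : F.IsFullyNormalized Q) {γ : MulAut Q} (hγ : γ ∈ E.autGroup Q) {k : ℕ}
    (hk : orderOf γ = p ^ k) :
    ∃ δ ∈ E.autGroup Q, ∃ g ∈ T, ∀ y : Q, (((δ * γ * δ⁻¹) y : Q) : Ω) = g * (y : Ω) * g⁻¹ := by
  have : Finite T := finite_of_le_finite hT.1
  have : Finite Q := finite_of_le_finite (hQT.trans hT.1)
  have hQE : E.IsFullyNormalized Q := fullyNormalized_of_F p hS F hF hT E hEF hQT hQ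
  obtain ⟨-, hfa, -⟩ := of_fullyNormalized p (hS.to_le hT.1) E hE hQE
  have hsyl := (isFullyAutomized_iff E p hQT).mp hfa
  have hpz : IsPGroup p (Subgroup.zpowers γ) := by
    apply IsPGroup.of_card (n := k)
    rw [Nat.card_zpowers, hk]
  obtain ⟨δ, hδ, hle⟩ := hsyl.exists_conj_le ((Subgroup.zpowers_le).mpr hγ) hpz
  have hmem : δ * γ * δ⁻¹ ∈ Cfsg.conjBy (Subgroup.zpowers γ) δ := by
    rw [mem_conjBy]
    have : δ⁻¹ * (δ * γ * δ⁻¹) * δ = γ := by group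
    rw [this]
    exact Subgroup.mem_zpowers _
  obtain ⟨g, hg, hgv⟩ := (mem_autInducedBy_iff _).mp (hle hmem)
  exact ⟨δ, hδ, g, hg, hgv⟩

end Cfsg.Agent.Helper25.WNR
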