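import Mathlib
import Cfsg.Agent.Lib.WNR.WNRNuA
import Cfsg.Agent.Lib.WNR.WNRSyl
import Cfsg.Agent.Lib.WNR.WNRALift
import Cfsg.Agent.Lib.CSE.CSEPull
import Cfsg.Agent.Lib.OPE.OPECent

/-!
# S5141 piece WNR-NU: for a `p`-element `γ` of `Aut_E(P)`, `P` `E`-centric: a map `ν` of `F` on `P ⊔ C` turning `γ` into conjugation by `g ∈ T`
`C := centralizerIn S T`, `hT := hEinv.2.1`, `hTS := hT.1`.
RECIPE. (1) `exists_transport` gives `μ, Q, γ'`.  (2) `exists_conj_T … hEinv.1 hQT hQfn hγ' (hk' : orderOf γ' = p ^ k)` gives `δ ∈ E.autGroup Q`, `g ∈ T`,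
`(δ γ' δ⁻¹) y = g y g⁻¹`.  (3) `δ ∈ F.autGroup Q` (`mem_autGroup_iff` for `E` and `F`, `hEinv.1`); `exists_aut_ext` gives
`δ^ ∈ F.Hom (Q ⊔ centralizerIn S Q)` with `δ^ y = δ y` on `Q`.  (4) `P ⊔ C ≤ normalizerIn S P`: `P` by `le_normalizerIn`; `c ∈ C` lies in `S` and
centralizes `T ⊇ P`, so normalizes `P`.  `μ' := μ.comp (Subgroup.inclusion _) ∈ F.Hom (P ⊔ C)` (`restrict_mem`).  Its values lie in
`Q ⊔ centralizerIn S Q`: the comap subgroup contains `P` (values in `Q`: clause 4 of `exists_transport`) and `C` (`μ c ∈ S` commutes with every `μ x`, hence with every `y ∈ Q`).  `ν := δ^.comp (μ'.codRestrict _ _)`, a map of `F` (`F.comp_mem`).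
(5) `ν x = δ ⟨μ x, _⟩`; `ν (γ x) = δ (γ' ⟨μ x,_⟩) = (δ γ' δ⁻¹) (δ ⟨μ x,_⟩) = g * ν x * g⁻¹`.
(6) `hcen`: `{ν x} = Q` (`δ` onto).  `OPE.isCentric_resSys F hTS E hEinv hPc` and `Q` a `resSys`-conjugate of `P` (via `φ := μ|P`,
`mem_resSys`) give `centralizerIn T Q ≤ Q`; `t ∈ T` commuting with all of `Q` lies in `centralizerIn T Q` (`mem_centralizerIn`).
Aux names: prefix `wnrnu_`.
-/

set_option autoImplicit false

namespace Cfsg.Agent.Helper25.WNR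

open Cfsg Cfsg.FusionSystem Cfsg.Agent.Helper25 Cfsg.Agent.Helper26 Cfsg.Agent.Helper3.PPrimeRes

variable {Ω : Type*} [Group Ω] {S : Subgroup Ω}

theorem exists_nu [Finite S] (p : ℕ) [Fact p.Prime] (hS : IsPGroup p S) (F : FusionSystem S)
    (hF : F.IsSaturated p) {T : Subgroup Ω} (E : FusionSystem T) (hE : E.IsSaturated p)
    (hEinv : E.IsInvariantIn F) {P : Subgroup Ω} (hPc : E.IsCentric P) {γ : MulAut P}
    (hγ : γ ∈ E.autGroup P) {k : ℕ} (hk : orderOf γ = p ^ k) :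
    ∃ (ν : ↥(P ⊔ centralizerIn S T) →* Ω) (g : Ω), ν ∈ F.Hom (P ⊔ centralizerIn S T) ∧ g ∈ T ∧
      (∀ t ∈ T, (∀ x : P, t * ν (Subgroup.inclusion le_sup_left x) =
        ν (Subgroup.inclusion le_sup_left x) * t) → ∃ x : P, ν (Subgroup.inclusion le_sup_left x) = t) ∧
      ∀ x : P, ν (Subgroup.inclusion le_sup_left (γ x)) =
        g * ν (Subgroup.inclusion le_sup_left x) * g⁻¹ := by
  have hT : F.StronglyClosed T := hEinv.2.1
  have hTS : T ≤ S := hT.1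
  have hPT : P ≤ T := hPc.1
  have hPS : P ≤ S := hPT.trans hTS
  obtain ⟨μ, Q, γ', hμ, hQfn, hQT, hμQ, hμsurj, hγ', hord, hμγ⟩ :=
    exists_transport p hS F hF E hEinv hPT hγ
  have hQS : Q ≤ S := hQT.trans hTS
  obtain ⟨δ, hδ, g, hgT, hδg⟩ :=
    exists_conj_T p hS F hF hT E hE hEinv.1 hQT hQfn hγ' (hord.trans hk)
  have hδF : δ ∈ F.autGroup Q :=
    (mem_autGroup_iff F hQS δ).mpr (hEinv.1 Q ((mem_autGroup_iff E hQT δ).mp hδ))
  obtain ⟨δh, hδh, hδhv⟩ := exists_aut_ext p hS F hF hQfn hδF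
  -- (4) `P ⊔ C ≤ N_S(P)`
  have hCc : ∀ c ∈ centralizerIn S T, ∀ y ∈ T, y * c = c * y := fun c hc y hy =>
    (mem_centralizerIn.mp hc).2 y hy
  have hPCN : P ⊔ centralizerIn S T ≤ normalizerIn S P := by
    refine sup_le (le_normalizerIn hPS) ?_
    intro c hc
    rw [mem_normalizerIn]
    refine ⟨(mem_centralizerIn.mp hc).1, mem_normalizer_of_forall (fun y hy => ?_) (fun y hy => ?_)⟩
    · have h1 := hCc c hc y (hPT hy)
      rw [← h1, mul_inv_cancel_right]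
      exact hy
    · have h1 := hCc c hc y (hPT hy)
      rw [mul_assoc, h1, inv_mul_cancel_left]
      exact hy
  have hμ' : μ.comp (Subgroup.inclusion hPCN) ∈ F.Hom (P ⊔ centralizerIn S T) :=
    restrict_mem F hPCN hμ
  have hval : ∀ w : ↥(P ⊔ centralizerIn S T),
      (μ.comp (Subgroup.inclusion hPCN)) w ∈ Q ⊔ centralizerIn S Q := by
    apply Cfsg.Agent.Helper3.CSE.csepull_map_mem
    · intro a
      exact hμQ a
    · intro b
      show μ ⟨(b : Ω), hPCN (le_sup_right (a := P) b.2)⟩ ∈ centralizerIn S Q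
      rw [mem_centralizerIn]
      refine ⟨(F.le_of_mem hμ).2 _, fun y hy => ?_⟩
      obtain ⟨x, hx⟩ := hμsurj ⟨y, hy⟩
      have hx' : y = μ ⟨x, le_normalizerIn hPS x.2⟩ := hx.symm
      rw [hx', ← map_mul, ← map_mul]
      congr 1
      apply Subtype.ext
      exact hCc b b.2 x (hPT x.2)
  refine ⟨δh.comp ((μ.comp (Subgroup.inclusion hPCN)).codRestrict _ hval), g,
    F.comp_mem hμ' hδh hval, hgT, ?_, ?_⟩
  · -- (6)
    intro t ht hcomm
    have hνx : ∀ x : P, (δh.comp ((μ.comp (Subgroup.inclusion hPCN)).codRestrict _ hval))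
        (Subgroup.inclusion le_sup_left x) =
        ((δ ⟨μ ⟨x, le_normalizerIn hPS x.2⟩, hμQ x⟩ : Q) : Ω) := fun x =>
      hδhv ⟨μ ⟨x, le_normalizerIn hPS x.2⟩, hμQ x⟩
    -- `Q` is a `resSys`-conjugate of `P`
    have hφ : μ.comp (Subgroup.inclusion (le_normalizerIn hPS)) ∈ F.Hom P :=
      restrict_mem F (le_normalizerIn hPS) hμ
    have hrange : (μ.comp (Subgroup.inclusion (le_normalizerIn hPS))).range = Q := by
      ext y
      constructor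
      · rintro ⟨x, rfl⟩
        exact hμQ x
      · intro hy
        obtain ⟨x, hx⟩ := hμsurj ⟨y, hy⟩
        exact ⟨x, hx⟩
    have hcenQ : centralizerIn T Q ≤ Q :=
      (Cfsg.Agent.Helper25.OPE.isCentric_resSys F hTS E hEinv hPc).2 Q
        ⟨_, (mem_resSys F T hTS _).mpr ⟨hφ, hPT, fun x => hQT (hμQ x)⟩, hrange⟩
    have htQ : t ∈ Q := by
      apply hcenQ
      rw [mem_centralizerIn]
      refine ⟨ht, fun y hy => ?_⟩
      -- `y = δ y'`, `y' = μ x`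
      obtain ⟨x, hx⟩ := hμsurj (δ.symm ⟨y, hy⟩)
      have h1 := hcomm x
      rw [hνx x] at h1
      have h2 : (⟨μ ⟨x, le_normalizerIn hPS x.2⟩, hμQ x⟩ : Q) = δ.symm ⟨y, hy⟩ := Subtype.ext hx
      rw [h2, MulEquiv.apply_symm_apply] at h1
      exact h1.symm
    obtain ⟨x, hx⟩ := hμsurj (δ.symm ⟨t, htQ⟩)
    refine ⟨x, ?_⟩
    rw [hνx x]
    have h2 : (⟨μ ⟨x, le_normalizerIn hPS x.2⟩, hμQ x⟩ : Q) = δ.symm ⟨t, htQ⟩ := Subtype.ext hx
    rw [h2, MulEquiv.apply_symm_apply]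
  · -- (5)
    intro x
    have hνx : ∀ x : P, (δh.comp ((μ.comp (Subgroup.inclusion hPCN)).codRestrict _ hval))
        (Subgroup.inclusion le_sup_left x) =
        ((δ ⟨μ ⟨x, le_normalizerIn hPS x.2⟩, hμQ x⟩ : Q) : Ω) := fun x =>
      hδhv ⟨μ ⟨x, le_normalizerIn hPS x.2⟩, hμQ x⟩
    rw [hνx, hνx]
    have h1 : (⟨μ ⟨γ x, le_normalizerIn hPS (γ x).2⟩, hμQ (γ x)⟩ : Q) =
        γ' ⟨μ ⟨x, le_normalizerIn hPS x.2⟩, hμQ x⟩ := Subtype.ext (hμγ x (hμQ x)).symm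
    rw [h1]
    have h2 := hδg (δ ⟨μ ⟨x, le_normalizerIn hPS x.2⟩, hμQ x⟩)
    rw [← h2]
    simp

end Cfsg.Agent.Helper25.WNR
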