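import Mathlib
import Cfsg.Agent.Lib.WNR.WNRLift

/-!
# S5141 piece WNR-TRANS: an automorphism `γ` of `P` that becomes conjugation by `g ∈ T` through a map `ν` of `F` on `P ⊔ C` has a lift
`C := centralizerIn S T`.  `hcen`: every element of `T` commuting with `ν(P)` lies in `ν(P)`.
`T` is normalized by `S`.  `κ := conjHom ν.range g ∈ F.Hom ν.range`.  Values of `κ` lie in `ν.range`:
on `ν x`: `g ν(x) g⁻¹ = ν (γ x)` (`hγ`).  On `ν c`, `c ∈ C`:
`t := (ν c)⁻¹ * (g * ν c * g⁻¹) ∈ T`, and `t` commutes with every `ν x`.  So `t = ν x₀` (`hcen`) and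
`g ν(c) g⁻¹ = ν (c * x₀)`.  Let `θ ∈ F.Hom ν.range` be the inverse of `ν` (`F.inv_mem`).  The lift is
`θ ∘ κ ∘ ν`: on `x`: `θ (ν (γ x)) = γ x`; on `c`: `θ (ν (c x₀)) = c x₀`, `c⁻¹ * (c x₀) = x₀ ∈ P ≤ T`.
Aux names: prefix `wnrtrans_`.
-/

set_option autoImplicit false

namespace Cfsg.Agent.Helper25.WNR

open Cfsg Cfsg.FusionSystem Cfsg.Agent.Helper25 Cfsg.Agent.Helper26 Cfsg.Agent.Helper3.PPrimeRes

variable {Ω : Type*} [Group Ω] {S : Subgroup Ω}

theorem wnrtrans_forall_sup {A B : Subgroup Ω} (H : Subgroup ↥(A ⊔ B))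
    (hA : ∀ a : A, Subgroup.inclusion (le_sup_left : A ≤ A ⊔ B) a ∈ H)
    (hB : ∀ b : B, Subgroup.inclusion (le_sup_right : B ≤ A ⊔ B) b ∈ H) (v : ↥(A ⊔ B)) :
    v ∈ H := by
  have htop : A.subgroupOf (A ⊔ B) ⊔ B.subgroupOf (A ⊔ B) = ⊤ :=
    codisjoint_iff.mp (Subgroup.codisjoint_subgroupOf_sup A B)
  have hle : A.subgroupOf (A ⊔ B) ⊔ B.subgroupOf (A ⊔ B) ≤ H := by
    apply sup_le
    · intro z hz
      rw [Subgroup.mem_subgroupOf] at hz
      have e : z = Subgroup.inclusion le_sup_left ⟨z.1, hz⟩ := Subtype.ext rfl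
      rw [e]
      exact hA _
    · intro z hz
      rw [Subgroup.mem_subgroupOf] at hz
      have e : z = Subgroup.inclusion le_sup_right ⟨z.1, hz⟩ := Subtype.ext rfl
      rw [e]
      exact hB _
  have hv : v ∈ (⊤ : Subgroup ↥(A ⊔ B)) := Subgroup.mem_top v
  rw [← htop] at hv
  exact hle hv

theorem hasLift_of_conj (F : FusionSystem S) {T : Subgroup Ω} (hT : F.StronglyClosed T) {P : Subgroup Ω}
    (hPT : P ≤ T) {ν : ↥(P ⊔ centralizerIn S T) →* Ω} (hν : ν ∈ F.Hom (P ⊔ centralizerIn S T))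
    (hcen : ∀ t ∈ T, (∀ x : P, t * ν (Subgroup.inclusion le_sup_left x) =
      ν (Subgroup.inclusion le_sup_left x) * t) → ∃ x : P, ν (Subgroup.inclusion le_sup_left x) = t)
    {g : Ω} (hg : g ∈ T) (γ : MulAut P)
    (hγ : ∀ x : P, ν (Subgroup.inclusion le_sup_left (γ x)) =
      g * ν (Subgroup.inclusion le_sup_left x) * g⁻¹) :
    HasLift F T P (P.subtype.comp γ.toMonoidHom) := by
  classical
  have hTS : T ≤ S := hT.1
  have hgS : g ∈ S := hTS hg
  have hrS : ν.range ≤ S := range_le F hν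
  -- the key fact on C
  have hC : ∀ c : ↥(P ⊔ centralizerIn S T), (c : Ω) ∈ centralizerIn S T →
      ∃ x₀ : P, g * ν c * g⁻¹ = ν (c * Subgroup.inclusion le_sup_left x₀) := by
    intro c hc
    have hνcS : ν c ∈ S := (F.le_of_mem hν).2 c
    -- t ∈ T
    have htT : (ν c)⁻¹ * (g * ν c * g⁻¹) ∈ T := by
      have hn := mem_normalizer_of_stronglyClosed hT (S.inv_mem hνcS)
      have h1 : (ν c)⁻¹ * g * ((ν c)⁻¹)⁻¹ ∈ T := (Subgroup.mem_normalizer_iff.mp hn g).mp hg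
      have e : (ν c)⁻¹ * (g * ν c * g⁻¹) = ((ν c)⁻¹ * g * ((ν c)⁻¹)⁻¹) * g⁻¹ := by group
      rw [e]
      exact T.mul_mem h1 (T.inv_mem hg)
    -- ν c commutes with ν x
    have hcomm : ∀ x : P, ν c * ν (Subgroup.inclusion le_sup_left x)
        = ν (Subgroup.inclusion le_sup_left x) * ν c := by
      intro x
      have h1 : (x : Ω) * (c : Ω) = (c : Ω) * (x : Ω) := mem_cent_comm hc (hPT x.2)
      have h2 : c * Subgroup.inclusion le_sup_left x = Subgroup.inclusion le_sup_left x * c :=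
        Subtype.ext h1.symm
      rw [← map_mul, ← map_mul, h2]
    -- g⁻¹ ν x g = ν (γ⁻¹ x)
    have hγinv : ∀ x : P, ν (Subgroup.inclusion le_sup_left x)
        = g * ν (Subgroup.inclusion le_sup_left (γ⁻¹ x)) * g⁻¹ := by
      intro x
      have h1 := hγ (γ⁻¹ x)
      rw [MulAut.apply_inv_self] at h1
      exact h1
    have hcomm_t : ∀ x : P, (ν c)⁻¹ * (g * ν c * g⁻¹) * ν (Subgroup.inclusion le_sup_left x)
        = ν (Subgroup.inclusion le_sup_left x) * ((ν c)⁻¹ * (g * ν c * g⁻¹)) := by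
      intro x
      have h1 := hγinv x
      have h2 := hcomm (γ⁻¹ x)
      have h3 := hcomm x
      have h3' : (ν c)⁻¹ * ν (Subgroup.inclusion le_sup_left x)
          = ν (Subgroup.inclusion le_sup_left x) * (ν c)⁻¹ := by
        apply eq_mul_inv_of_mul_eq
        rw [mul_assoc, ← h3, inv_mul_cancel_left]
      -- write X = ν x, X' = ν (γ⁻¹ x), N = ν c : X = g X' g⁻¹, N X' = X' N, N X = X N
      calc (ν c)⁻¹ * (g * ν c * g⁻¹) * ν (Subgroup.inclusion le_sup_left x)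
          = (ν c)⁻¹ * (g * ν c * g⁻¹) *
              (g * ν (Subgroup.inclusion le_sup_left (γ⁻¹ x)) * g⁻¹) := by rw [← h1]
        _ = (ν c)⁻¹ * g * (ν c * ν (Subgroup.inclusion le_sup_left (γ⁻¹ x))) * g⁻¹ := by group
        _ = (ν c)⁻¹ * g * (ν (Subgroup.inclusion le_sup_left (γ⁻¹ x)) * ν c) * g⁻¹ := by rw [h2]
        _ = (ν c)⁻¹ * (g * ν (Subgroup.inclusion le_sup_left (γ⁻¹ x)) * g⁻¹) *
              (g * ν c * g⁻¹) := by group
        _ = (ν c)⁻¹ * ν (Subgroup.inclusion le_sup_left x) * (g * ν c * g⁻¹) := by rw [← h1]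
        _ = ν (Subgroup.inclusion le_sup_left x) * (ν c)⁻¹ * (g * ν c * g⁻¹) := by rw [h3']
        _ = ν (Subgroup.inclusion le_sup_left x) * ((ν c)⁻¹ * (g * ν c * g⁻¹)) := by
            rw [mul_assoc]
    obtain ⟨x₀, hx₀⟩ := hcen _ htT hcomm_t
    refine ⟨x₀, ?_⟩
    rw [map_mul, hx₀, mul_inv_cancel_left]
  -- values of conjugation stay in the range
  have hA : ∀ u : ↥(P ⊔ centralizerIn S T), g * ν u * g⁻¹ ∈ ν.range := by
    intro u
    have h0 := wnrtrans_forall_sup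
      (ν.range.comap ((MulAut.conj g).toMonoidHom.comp ν)) ?_ ?_ u
    · exact h0
    · intro a
      rw [Subgroup.mem_comap]
      show g * ν (Subgroup.inclusion le_sup_left a) * g⁻¹ ∈ ν.range
      rw [← hγ a]
      exact ⟨_, rfl⟩
    · intro b
      rw [Subgroup.mem_comap]
      show g * ν (Subgroup.inclusion le_sup_right b) * g⁻¹ ∈ ν.range
      obtain ⟨x₀, hx₀⟩ := hC (Subgroup.inclusion le_sup_right b) b.2
      rw [hx₀]
      exact ⟨_, rfl⟩
  -- the maps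
  have hκ : conjHom ν.range g ∈ F.Hom ν.range := F.conj_mem hrS hgS
  have hνr : ∀ u : ↥(P ⊔ centralizerIn S T), ν u ∈ ν.range := fun u => ⟨u, rfl⟩
  have hμ := F.comp_mem hν hκ hνr
  have hμ_apply : ∀ u : ↥(P ⊔ centralizerIn S T),
      ((conjHom ν.range g).comp (ν.codRestrict ν.range hνr)) u = g * ν u * g⁻¹ := fun u => rfl
  have hμr : ∀ u : ↥(P ⊔ centralizerIn S T),
      ((conjHom ν.range g).comp (ν.codRestrict ν.range hνr)) u ∈ ν.range := by
    intro u
    rw [hμ_apply]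
    exact hA u
  obtain ⟨θ, hθ, hθinv⟩ := F.inv_mem hν
  have hψ := F.comp_mem hμ hθ hμr
  have hkey : ∀ (u w : ↥(P ⊔ centralizerIn S T)), g * ν u * g⁻¹ = ν w →
      (θ.comp (((conjHom ν.range g).comp (ν.codRestrict ν.range hνr)).codRestrict ν.range hμr)) u
        = (w : Ω) := by
    intro u w huw
    show θ ⟨((conjHom ν.range g).comp (ν.codRestrict ν.range hνr)) u, hμr u⟩ = (w : Ω)
    have e : (⟨((conjHom ν.range g).comp (ν.codRestrict ν.range hνr)) u, hμr u⟩ : ν.range)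
        = ⟨ν w, hνr w⟩ := Subtype.ext ((hμ_apply u).trans huw)
    rw [e]
    exact hθinv w
  refine ⟨_, hψ, ?_, ?_⟩
  · intro x
    rw [hkey (Subgroup.inclusion le_sup_left x) (Subgroup.inclusion le_sup_left (γ x)) (hγ x).symm]
    rfl
  · intro c hc
    obtain ⟨x₀, hx₀⟩ := hC c hc
    rw [hkey c (c * Subgroup.inclusion le_sup_left x₀) hx₀, Subgroup.coe_mul, inv_mul_cancel_left]
    exact hPT x₀.2

end Cfsg.Agent.Helper25.WNR
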