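import Mathlib
import Cfsg.Agent.Lib.WNR.WNRDefs
import Cfsg.Agent.Lib.WNR.WNRNu
import Cfsg.Agent.Lib.WNR.WNRTrans

/-!
# S5141 piece WNR-OP: `O^{p'}(Aut_E(P)) ≤ Aut_{DW}(P)` for `E`-centric `P`
RECIPE (as `OPE.opPrime_le_interSys`, `Lib/OPE/OPEOp.lean`): `OpPrime_eq_closure`, `Subgroup.closure_le`; for a generator `γ`
(`γ ∈ E.autGroup P`, `orderOf γ = p ^ k`): `mem_autGroup_iff (DW F hTS E) hPc.1`, `mem_DW`; first component
`(mem_autGroup_iff E hPc.1 γ).mp hγ`; second: `fun _ => …` with `exists_nu` then `hasLift_of_conj F hEinv.2.1 hPc.1 hν hcen hg γ hγν`.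
Aux names: prefix `wnrop_`.
-/

set_option autoImplicit false

namespace Cfsg.Agent.Helper25.WNR

open Cfsg Cfsg.FusionSystem Cfsg.Agent.Helper25 Cfsg.Agent.Helper26 Cfsg.Agent.Helper3.PPrimeRes

variable {Ω : Type*} [Group Ω] {S : Subgroup Ω}

theorem opPrime_le_DW [Finite S] (p : ℕ) [Fact p.Prime] (hS : IsPGroup p S) (F : FusionSystem S)
    (hF : F.IsSaturated p) {T : Subgroup Ω} (hTS : T ≤ S) (E : FusionSystem T) (hE : E.IsSaturated p)
    (hEinv : E.IsInvariantIn F) {P : Subgroup Ω} (hPc : E.IsCentric P) :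
    OpPrime E p P ≤ (DW F hTS E).autGroup P := by
  rw [OpPrime_eq_closure]
  refine (Subgroup.closure_le _).mpr ?_
  rintro γ ⟨hγ, k, hk⟩
  rw [SetLike.mem_coe, mem_autGroup_iff (DW F hTS E) hPc.1, mem_DW]
  refine ⟨(mem_autGroup_iff E hPc.1 γ).mp hγ, fun _ => ?_⟩
  obtain ⟨ν, g, hν, hg, hcen, hγν⟩ := exists_nu p hS F hF E hE hEinv hPc hγ hk
  exact hasLift_of_conj F hEinv.2.1 hPc.1 hν hcen hg γ hγν

end Cfsg.Agent.Helper25.WNR
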