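import Mathlib
import Cfsg.Agent.Lib.WNR.WNRLift
import Cfsg.Agent.Lib.WNO.WNORigid

/-!
# S5141 (bridge, helper25): the key statement for `α ∈ Aut_F(T)` of order prime to `p`, from helper8's `WNO.rigid`
`HasLift` is `WNO.Good` and `(resSys F T _).IsCentric` gives `WNO.TCen`.
-/

set_option autoImplicit false

namespace Cfsg.Agent.Helper25.WNR

open Cfsg Cfsg.FusionSystem Cfsg.Agent.Helper25 Cfsg.Agent.Helper26 Cfsg.Agent.Helper3.PPrimeRes Cfsg.Agent.Helper25.OPE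

variable {Ω : Type*} [Group Ω] {S : Subgroup Ω}

theorem good_of_hasLift {F : FusionSystem S} {T P : Subgroup Ω} {φ : P →* Ω} (h : HasLift F T P φ) :
    Cfsg.Agent.Helper8.WNO.Good F T P φ := by
  obtain ⟨ψ, hψ, h1, h2⟩ := h
  exact ⟨ψ, hψ, h1, fun c => h2 (Subgroup.inclusion le_sup_right c) c.2⟩

theorem hasLift_of_good {F : FusionSystem S} {T P : Subgroup Ω} {φ : P →* Ω}
    (h : Cfsg.Agent.Helper8.WNO.Good F T P φ) : HasLift F T P φ := by
  obtain ⟨ψ, hψ, h1, h2⟩ := h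
  refine ⟨ψ, hψ, h1, fun c hc => ?_⟩
  have e : c = Subgroup.inclusion le_sup_right (⟨(c : Ω), hc⟩ : centralizerIn S T) := Subtype.ext rfl
  have := h2 ⟨(c : Ω), hc⟩
  rw [e]
  exact this

theorem tCen_of_isCentric_resSys (F : FusionSystem S) {T : Subgroup Ω} (hT : F.StronglyClosed T)
    {P : Subgroup Ω} (hcen : (resSys F T hT.1).IsCentric P) : Cfsg.Agent.Helper8.WNO.TCen F T P := by
  refine ⟨hcen.1, ?_⟩
  rintro Q' ⟨φ, hφ, rfl⟩
  exact hcen.2 φ.range ⟨φ, ⟨hφ, hcen.1, fun x => hT.2 P hcen.1 φ hφ x⟩, rfl⟩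

theorem star_pprime [Finite S] (p : ℕ) [Fact p.Prime] (hS : IsPGroup p S) (F : FusionSystem S)
    (hF : F.IsSaturated p) {T : Subgroup Ω} (hT : F.StronglyClosed T) {α : MulAut T}
    (hα : α ∈ F.autGroup T) (hord : (orderOf α).Coprime p) {P : Subgroup Ω} (hPT : P ≤ T)
    (hcen : (resSys F T hT.1).IsCentric P) (hl : HasLift F T P (resAut α P hPT)) :
    HasLift F T T (resAut α T le_rfl) := by
  have hQ := tCen_of_isCentric_resSys F hT hcen
  have h := Cfsg.Agent.Helper8.WNO.rigid p hS F hF hT hQ α hα hord (good_of_hasLift hl)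
  have e : resAut α T le_rfl = T.subtype.comp α.toMonoidHom := by
    ext x; rfl
  rw [e]
  exact hasLift_of_good h

end Cfsg.Agent.Helper25.WNR
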