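import Mathlib
import Cfsg.Agent.Lib.WNR.WNRStarP
import Cfsg.Agent.Lib.WNR.WNROp

/-!
# S5141 piece WNR-STARG: `α ∈ Aut_E(T)`, `P` `E`-centric, `α|P ∈ DW` ⟹ `α ∈ Aut_{DW}(T)`
RECIPE. `Finite T`; `n := orderOf α > 0`; `n = p ^ e * n'`, `p ∤ n'` (`Nat.exists_eq_pow_mul_and_not_dvd`), `(p ^ e).Coprime n'`.
`Nat.chineseRemainder` gives `j` with `j ≡ 0 [MOD p ^ e]`, `j ≡ 1 [MOD n']`.  `α₂ := α ^ j`, `α₁ := α * α₂⁻¹`.
 - `α₂ ^ n' = α ^ (j n') = 1` (`n ∣ j * n'`), so `orderOf α₂ ∣ n'` is coprime to `p`.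
 - `α₁ = α ^ (1 - j)` in `ℤ`-powers; `α₁ ^ (p ^ e) = 1` as `n ∣ (j - 1) * p ^ e`… (work with `zpow` or pick `j' ` by a second `chineseRemainder` with
   `j' ≡ 1 [MOD p ^ e]`, `j' ≡ 0 [MOD n']`, `α₁ := α ^ j'`, and `α ^ (j + j') = α` since `j + j' ≡ 1 [MOD n]`).  So `orderOf α₁ = p ^ k` (`Nat.dvd_prime_pow`).
 - `α₁ ∈ E.autGroup T` has `p`-power order: `mem_OpPrime_of_orderOf` (`Lib/Helper25/FusionPrimeIndex2.lean`) and `opPrime_le_DW … hTc` with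
   `hTc : E.IsCentric T` (`⟨le_rfl, …⟩`: every `E`-conjugate of `T` is `T`; or `isCentric_of_le E hPc.1 le_rfl hPc`) give `α₁ ∈ (DW F hTS E).autGroup T`.
 - `resAut α₂ P _ ∈ (DW …).Hom P`: `α₂ = α₁⁻¹ * α`; compose `hres` with the restriction of `α₁⁻¹ ∈ (DW …).autGroup T` to the range (`comp_mem'`, `restrict_mem`,
   `mem_autGroup_iff (DW …) le_rfl`).  Hence (`mem_DW`, `hPc`) `HasLift F T P (resAut α₂ P _)`.
 - `star_pprime` (with `α₂ ∈ F.autGroup T` via `hEinv.1`, `hcen := OPE.isCentric_resSys F hTS E hEinv hPc`) gives `HasLift F T T (resAut α₂ T le_rfl)`;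
   `resAut α₂ T le_rfl ∈ E.Hom T`; so `α₂ ∈ (DW …).autGroup T` (`resAut_top_mem_iff`).
 - `α = α₁ * α₂ ∈ (DW …).autGroup T`.  Aux names: prefix `wnrstarg_`.
-/

set_option autoImplicit false

namespace Cfsg.Agent.Helper25.WNR

open Cfsg Cfsg.FusionSystem Cfsg.Agent.Helper25 Cfsg.Agent.Helper26 Cfsg.Agent.Helper3.PPrimeRes Cfsg.Agent.Helper25.OPE

variable {Ω : Type*} [Group Ω] {S : Subgroup Ω}

/-- splitting an element of finite order into a `p`-part and a `p'`-part (both powers of it) -/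
theorem wnrstarg_split {M : Type*} [Group M] (p : ℕ) [Fact p.Prime] (α : M) (hfin : IsOfFinOrder α) :
    ∃ α₁ α₂ : M, α₁ ∈ Subgroup.zpowers α ∧ α₂ ∈ Subgroup.zpowers α ∧ α = α₁ * α₂ ∧
      (∃ k : ℕ, orderOf α₁ = p ^ k) ∧ (orderOf α₂).Coprime p := by
  have hp : p.Prime := Fact.out
  have hn : orderOf α ≠ 0 := (orderOf_pos_iff.mpr hfin).ne'
  obtain ⟨e, n', hpn', hn'⟩ := Nat.exists_eq_pow_mul_and_not_dvd hn p hp.ne_one
  have hcop : (p ^ e).Coprime n' := Nat.Coprime.pow_left e ((Nat.Prime.coprime_iff_not_dvd hp).mpr hpn')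
  have hbez : ((p ^ e : ℕ) : ℤ) * Nat.gcdA (p ^ e) n' + (n' : ℤ) * Nat.gcdB (p ^ e) n' = 1 := by
    have := Nat.gcd_eq_gcd_ab (p ^ e) n'
    rw [hcop] at this
    exact_mod_cast this.symm
  have hαn : α ^ ((p ^ e * n' : ℕ) : ℤ) = 1 := by
    rw [zpow_natCast, ← hn']
    exact pow_orderOf_eq_one α
  refine ⟨α ^ ((n' : ℤ) * Nat.gcdB (p ^ e) n'), α ^ (((p ^ e : ℕ) : ℤ) * Nat.gcdA (p ^ e) n'),
    ⟨_, rfl⟩, ⟨_, rfl⟩, ?_, ?_, ?_⟩
  · rw [← zpow_add, add_comm, hbez, zpow_one]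
  · have h1 : (α ^ ((n' : ℤ) * Nat.gcdB (p ^ e) n')) ^ (p ^ e) = 1 := by
      rw [← zpow_natCast, ← zpow_mul]
      have : (n' : ℤ) * Nat.gcdB (p ^ e) n' * ((p ^ e : ℕ) : ℤ) =
          ((p ^ e * n' : ℕ) : ℤ) * Nat.gcdB (p ^ e) n' := by
        push_cast; ring
      rw [this, zpow_mul, hαn, one_zpow]
    have h2 := orderOf_dvd_of_pow_eq_one h1
    obtain ⟨k, -, hk⟩ := (Nat.dvd_prime_pow hp).mp h2
    exact ⟨k, hk⟩
  · have h1 : (α ^ (((p ^ e : ℕ) : ℤ) * Nat.gcdA (p ^ e) n')) ^ n' = 1 := by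
      rw [← zpow_natCast, ← zpow_mul]
      have : ((p ^ e : ℕ) : ℤ) * Nat.gcdA (p ^ e) n' * (n' : ℤ) =
          ((p ^ e * n' : ℕ) : ℤ) * Nat.gcdA (p ^ e) n' := by
        push_cast; ring
      rw [this, zpow_mul, hαn, one_zpow]
    have h2 := orderOf_dvd_of_pow_eq_one h1
    have h3 : n'.Coprime p := ((Nat.Prime.coprime_iff_not_dvd hp).mpr hpn').symm
    exact Nat.Coprime.coprime_dvd_left h2 h3

theorem star_gen [Finite S] (p : ℕ) [Fact p.Prime] (hS : IsPGroup p S) (F : FusionSystem S)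
    (hF : F.IsSaturated p) {T : Subgroup Ω} (hTS : T ≤ S) (E : FusionSystem T) (hE : E.IsSaturated p)
    (hEinv : E.IsInvariantIn F) {α : MulAut T} (hα : α ∈ E.autGroup T) {P : Subgroup Ω}
    (hPc : E.IsCentric P) (hres : resAut α P hPc.1 ∈ (DW F hTS E).Hom P) :
    α ∈ (DW F hTS E).autGroup T := by
  have hfinT : Finite T := finite_of_le_finite hTS
  have hfinA : Finite (MulAut T) := Finite.of_injective (fun a : MulAut T => (a : T → T))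
    (fun a b h => MulEquiv.ext (congrFun h))
  obtain ⟨α₁, α₂, hα₁z, hα₂z, hsplit, ⟨k, hk⟩, hord⟩ := wnrstarg_split p α (isOfFinOrder_of_finite α)
  have hzle : Subgroup.zpowers α ≤ E.autGroup T := Subgroup.zpowers_le.mpr hα
  have hα₁E : α₁ ∈ E.autGroup T := hzle hα₁z
  have hα₂E : α₂ ∈ E.autGroup T := hzle hα₂z
  have hT : F.StronglyClosed T := hEinv.2.1
  have hTc : E.IsCentric T := Cfsg.Agent.Helper26.isCentric_of_le E hPc.1 le_rfl hPc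
  have hα₁DW : α₁ ∈ (DW F hTS E).autGroup T :=
    opPrime_le_DW p hS F hF hTS E hE hEinv hTc (mem_OpPrime_of_orderOf E hα₁E hk)
  have hα₁invDW : α₁⁻¹ ∈ (DW F hTS E).autGroup T := ((DW F hTS E).autGroup T).inv_mem hα₁DW
  have hψ : T.subtype.comp (α₁⁻¹).toMonoidHom ∈ (DW F hTS E).Hom T :=
    (mem_autGroup_iff (DW F hTS E) le_rfl α₁⁻¹).mp hα₁invDW
  have hα₂eq : α₂ = α₁⁻¹ * α := by rw [hsplit, inv_mul_cancel_left]
  have hresT : ∀ x : P, resAut α P hPc.1 x ∈ T := fun x => resAut_mem_T α P hPc.1 x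
  have hres₂ : resAut α₂ P hPc.1 ∈ (DW F hTS E).Hom P := by
    refine comp_mem' (DW F hTS E) hres hψ hresT (fun x => ?_)
    rw [resAut_apply, hα₂eq]
    rfl
  have hl : HasLift F T P (resAut α₂ P hPc.1) := (mem_DW.mp hres₂).2 hPc
  have hα₂F : α₂ ∈ F.autGroup T :=
    (mem_autGroup_iff F hTS α₂).mpr (hEinv.1 _ ((mem_autGroup_iff E le_rfl α₂).mp hα₂E))
  have hcen : (resSys F T hTS).IsCentric P := OPE.isCentric_resSys F hTS E hEinv hPc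
  have hlT : HasLift F T T (resAut α₂ T le_rfl) :=
    star_pprime p hS F hF hT hα₂F hord hPc.1 hcen hl
  have hα₂DW : α₂ ∈ (DW F hTS E).autGroup T := by
    rw [← resAut_top_mem_iff]
    exact mem_DW.mpr ⟨(resAut_top_mem_iff E α₂).mpr hα₂E, fun _ => hlT⟩
  rw [hsplit]
  exact ((DW F hTS E).autGroup T).mul_mem hα₁DW hα₂DW

end Cfsg.Agent.Helper25.WNR
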