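import Mathlib
import Cfsg.Agent.Lib.WNR.WNRStarG
import Cfsg.Agent.S5114

/-!
# S5141 piece WNR-ADM: `DW` is admissible in `E`
RECIPE. Copy `OPE.adm_interSys` (`Lib/OPE/OPEAdm.lean`) with `interSys E D'` replaced by `DW F hTS E`:
`le := fun _ _ h => h.1`; `op := fun P hPc => opPrime_le_DW p hS F hF hTS E hE hEinv hPc`;
`ext R ψ hψ P hPR hPc h`: S5114 for `DW ≤ E` gives `ψ x = α ⟨ψ₀ x, _⟩`, `α ∈ E.autGroup T`, `ψ₀ ∈ (DW …).Hom R`.  `ψ₀' := ψ₀|P ∈ (DW …).Hom P` (`restrict_mem`),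
`P₀ := ψ₀'.range` is `E`-centric; the inverse `κ ∈ (DW …).Hom P₀` of `ψ₀'` composed with `h : ψ|P ∈ (DW …).Hom P` is `resAut α P₀ _ ∈ (DW …).Hom P₀` (`comp_mem' (DW …)`);
`star_gen` gives `α ∈ (DW …).autGroup T`; `ψ = α ∘ ψ₀ ∈ (DW …).Hom R` (`comp_mem' (DW …) hψ₀ ((mem_autGroup_iff _ le_rfl α).mp _) …`).
Aux names: prefix `wnradm_`.
-/

set_option autoImplicit false

namespace Cfsg.Agent.Helper25.WNR

open Cfsg Cfsg.FusionSystem Cfsg.Agent.Helper25 Cfsg.Agent.Helper26 Cfsg.Agent.Helper3.PPrimeRes Cfsg.Agent.Helper25.OPE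

variable {Ω : Type*} [Group Ω] {S : Subgroup Ω}

theorem adm_DW [Finite S] (p : ℕ) [Fact p.Prime] (hS : IsPGroup p S) (F : FusionSystem S)
    (hF : F.IsSaturated p) {T : Subgroup Ω} (hTS : T ≤ S) (E : FusionSystem T) (hE : E.IsSaturated p)
    (hEinv : E.IsInvariantIn F) : Adm E p (DW F hTS E) := by
  have hT : IsPGroup p T := hS.to_le hTS
  have : Finite T := Finite.of_injective (Subgroup.inclusion hTS) (Subgroup.inclusion_injective hTS)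
  have hsub : (DW F hTS E).IsSubsystemOf E := fun _ _ h => h.1
  have hop : ∀ P : Subgroup Ω, E.IsCentric P → OpPrime E p P ≤ (DW F hTS E).autGroup P :=
    fun P hPc => opPrime_le_DW p hS F hF hTS E hE hEinv hPc
  refine ⟨fun _ _ h => h.1, hop, ?_⟩
  intro R ψ hψ P hPR hPc h
  obtain ⟨-, hdec, -⟩ := Cfsg.Agent.S5114.result p hT E hE (DW F hTS E) hsub hop
  obtain ⟨α, hα, ψ₀, hψ₀, hfac⟩ := hdec R ψ hψ
  have hψ₀T : ∀ x : R, ψ₀ x ∈ T := (E.le_of_mem hψ₀.1).2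
  have hψ₀'E : ψ₀.comp (Subgroup.inclusion hPR) ∈ E.Hom P := restrict_mem E hPR hψ₀.1
  have hψ₀'D : ψ₀.comp (Subgroup.inclusion hPR) ∈ (DW F hTS E).Hom P :=
    restrict_mem (DW F hTS E) hPR hψ₀
  have hP₀c : E.IsCentric (ψ₀.comp (Subgroup.inclusion hPR)).range :=
    isCentric_of_isConj E hPc ⟨_, hψ₀'E, rfl⟩
  obtain ⟨κ, hκ, hκinv⟩ := (DW F hTS E).inv_mem hψ₀'D
  have hκP : ∀ y : (ψ₀.comp (Subgroup.inclusion hPR)).range, κ y ∈ P := by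
    rintro ⟨_, x, rfl⟩
    rw [hκinv x]
    exact x.2
  have hres : resAut α (ψ₀.comp (Subgroup.inclusion hPR)).range hP₀c.1 ∈
      (DW F hTS E).Hom (ψ₀.comp (Subgroup.inclusion hPR)).range := by
    refine comp_mem' (DW F hTS E) hκ h hκP ?_
    rintro ⟨_, x, rfl⟩
    have e1 : (⟨κ ⟨(ψ₀.comp (Subgroup.inclusion hPR)) x, ⟨x, rfl⟩⟩, hκP ⟨_, ⟨x, rfl⟩⟩⟩ : P) = x :=
      Subtype.ext (hκinv x)
    rw [e1, resAut_apply]
    exact (hfac (Subgroup.inclusion hPR x) (hψ₀T _)).symm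
  have hαD : α ∈ (DW F hTS E).autGroup T := star_gen p hS F hF hTS E hE hEinv hα hP₀c hres
  exact comp_mem' (DW F hTS E) hψ₀ ((mem_autGroup_iff (DW F hTS E) le_rfl α).mp hαD) hψ₀T
      (fun x => hfac x (hψ₀T x))

end Cfsg.Agent.Helper25.WNR
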