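import Mathlib
import Cfsg.Agent.Lib.WNR.WNRLift

/-!
# S5141 piece WNR-AUTT: automorphisms in `F` preserve `T` and (on `T ⊔ C`) preserve `C = C_S(T)`
RECIPE `aut_mem_T`: `ξ' := Q.subtype.comp ξ.toMonoidHom ∈ F.Hom Q` (`mem_autGroup_iff F hQS ξ`); restrict to `Q ⊓ T ≤ Q` (`restrict_mem`);
`hT.2 (Q ⊓ T) inf_le_right _ _ ⟨u, _⟩`.
`aut_mem_cent`: `a u ∈ S` (`(T ⊔ C) ≤ S`: `sup_cent_le hT.1 le_rfl`).  For `t ∈ T`: `t' := a⁻¹ ⟨t, _⟩` has `(t' : Ω) ∈ T` (`aut_mem_T` for `a⁻¹`,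
`Subgroup.inv_mem`); `u` commutes with `t'` (`mem_cent_comm`); apply `a` (`map_mul`, `MulAut.apply_inv_self`).  Conclude with
`mem_centralizerIn` / `Subgroup.mem_centralizer_iff`.  Aux names: prefix `wnrautt_`.
-/

set_option autoImplicit false

namespace Cfsg.Agent.Helper25.WNR

open Cfsg Cfsg.FusionSystem Cfsg.Agent.Helper25 Cfsg.Agent.Helper26 Cfsg.Agent.Helper3.PPrimeRes

variable {Ω : Type*} [Group Ω] {S : Subgroup Ω}

theorem aut_mem_T (F : FusionSystem S) {T : Subgroup Ω} (hT : F.StronglyClosed T) {Q : Subgroup Ω}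
    (hQS : Q ≤ S) {ξ : MulAut Q} (hξ : ξ ∈ F.autGroup Q) (u : Q) (hu : (u : Ω) ∈ T) :
    ((ξ u : Q) : Ω) ∈ T := by
  have hξ' : Q.subtype.comp ξ.toMonoidHom ∈ F.Hom Q := (mem_autGroup_iff F hQS ξ).mp hξ
  have hres := restrict_mem F (inf_le_left : Q ⊓ T ≤ Q) hξ'
  have h1 := hT.2 (Q ⊓ T) inf_le_right _ hres ⟨(u : Ω), ⟨u.2, hu⟩⟩
  exact h1

theorem aut_mem_cent (F : FusionSystem S) {T : Subgroup Ω} (hT : F.StronglyClosed T)
    {a : MulAut ↥(T ⊔ centralizerIn S T)} (ha : a ∈ F.autGroup (T ⊔ centralizerIn S T))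
    (u : ↥(T ⊔ centralizerIn S T)) (hu : (u : Ω) ∈ centralizerIn S T) :
    ((a u : ↥(T ⊔ centralizerIn S T)) : Ω) ∈ centralizerIn S T := by
  have hle : T ⊔ centralizerIn S T ≤ S := sup_cent_le hT.1 le_rfl
  rw [mem_centralizerIn]
  refine ⟨hle (a u).2, fun t ht => ?_⟩
  have htU : t ∈ T ⊔ centralizerIn S T := Subgroup.mem_sup_left ht
  have ht' : ((a⁻¹ ⟨t, htU⟩ : ↥(T ⊔ centralizerIn S T)) : Ω) ∈ T :=
    aut_mem_T F hT hle (Subgroup.inv_mem _ ha) ⟨t, htU⟩ ht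
  have hcomm := mem_cent_comm hu ht'
  have hcomm' : a⁻¹ ⟨t, htU⟩ * u = u * a⁻¹ ⟨t, htU⟩ := Subtype.ext hcomm
  have h2 := congrArg a hcomm'
  rw [map_mul, map_mul, MulAut.apply_inv_self] at h2
  exact congrArg Subtype.val h2

end Cfsg.Agent.Helper25.WNR
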