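import Mathlib
import Cfsg.Agent.Lib.WNR.WNRDefs
import Cfsg.Agent.Lib.WNR.WNRAutT

/-!
# S5141 piece WNR-TOP: an element of `Aut_{DW}(T)` satisfies the extension clause of `IsNormalIn`
RECIPE. `(mem_autGroup_iff (DW F hTS E) le_rfl α).mp hα : T.subtype.comp α.toMonoidHom ∈ (DW …).Hom T`; `mem_DW` and `hTc` give a lift
`ψ ∈ F.Hom (T ⊔ C)`, `ψ (incl x) = α x`, `c⁻¹ ψ(c) ∈ T`.  Values of `ψ` lie in `T ⊔ C`: on `T` in `T`; for `c ∈ C`: `ψ c ∈ S` (`F.le_of_mem`) and commutes with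
every `ψ (incl x) = α x`, i.e. with all of `T` (`α` onto), so `ψ c ∈ C` (`mem_centralizerIn`).  `ψ` injective, `↥(T ⊔ C)` finite ⇒ bijective;
`β := MulEquiv.ofBijective (ψ.codRestrict _ _) _`; `β ∈ F.autGroup (T ⊔ C)` (`mem_autGroup_iff F (sup_cent_le hTS le_rfl)`, underlying hom `= ψ`).
Last clause: `c⁻¹ * β c ∈ T` (lift) and `∈ Subgroup.centralizer T` (both `c` and `β c = ψ c` centralize `T`).  Aux names: prefix `wnrtop_`.
-/

set_option autoImplicit false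

namespace Cfsg.Agent.Helper25.WNR

open Cfsg Cfsg.FusionSystem Cfsg.Agent.Helper25 Cfsg.Agent.Helper26 Cfsg.Agent.Helper3.PPrimeRes Cfsg.Agent.Helper25.OPE

variable {Ω : Type*} [Group Ω] {S : Subgroup Ω}

theorem wnrtop_sup_mem {P Q : Subgroup Ω} (φ : ↥(P ⊔ Q) →* Ω) (D : Subgroup Ω)
    (hP : ∀ (a : Ω) (ha : a ∈ P), φ ⟨a, (le_sup_left : P ≤ P ⊔ Q) ha⟩ ∈ D)
    (hQ : ∀ (b : Ω) (hb : b ∈ Q), φ ⟨b, (le_sup_right : Q ≤ P ⊔ Q) hb⟩ ∈ D) (x : ↥(P ⊔ Q)) :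
    φ x ∈ D := by
  have h : (⊤ : Subgroup ↥(P ⊔ Q)) ≤ D.comap φ := by
    rw [← Subgroup.subgroupOf_self (P ⊔ Q), Subgroup.subgroupOf_sup le_sup_left le_sup_right]
    refine sup_le ?_ ?_
    · intro y hy
      exact hP y.1 (Subgroup.mem_subgroupOf.mp hy)
    · intro y hy
      exact hQ y.1 (Subgroup.mem_subgroupOf.mp hy)
  exact h (Subgroup.mem_top x)

theorem exists_ext_of_mem_DW [Finite S] (F : FusionSystem S) {T : Subgroup Ω} (hTS : T ≤ S)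
    (E : FusionSystem T) (hTc : E.IsCentric T) {α : MulAut T} (hα : α ∈ (DW F hTS E).autGroup T) :
    ∃ β ∈ F.autGroup (T ⊔ centralizerIn S T),
      (∀ x : T, ((β (Subgroup.inclusion le_sup_left x) : ↥(T ⊔ centralizerIn S T)) : Ω) = ((α x : T) : Ω)) ∧
      ∀ c : ↥(T ⊔ centralizerIn S T), (c : Ω) ∈ centralizerIn S T →
        (c : Ω)⁻¹ * ((β c : ↥(T ⊔ centralizerIn S T)) : Ω) ∈ T ⊓ Subgroup.centralizer (T : Set Ω) := by
  have hQS : T ⊔ centralizerIn S T ≤ S := sup_cent_le hTS le_rfl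
  have hφ := (mem_autGroup_iff (DW F hTS E) le_rfl α).mp hα
  obtain ⟨ψ, hψ, hψext, hψc⟩ := (mem_DW.1 hφ).2 hTc
  have hψT : ∀ (x : Ω) (hx : x ∈ T),
      ψ ⟨x, (le_sup_left : T ≤ T ⊔ centralizerIn S T) hx⟩ = ((α ⟨x, hx⟩ : T) : Ω) := by
    intro x hx
    exact hψext ⟨x, hx⟩
  have hψC : ∀ (c : Ω) (hc : c ∈ centralizerIn S T),
      ψ ⟨c, (le_sup_right : centralizerIn S T ≤ T ⊔ centralizerIn S T) hc⟩ ∈ centralizerIn S T := by
    intro c hc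
    rw [mem_centralizerIn]
    refine ⟨(F.le_of_mem hψ).2 _, ?_⟩
    intro r hr
    have hr' := hψT (α.symm ⟨r, hr⟩ : T).1 (α.symm ⟨r, hr⟩ : T).2
    have e1 : ((α ⟨(α.symm ⟨r, hr⟩ : T).1, (α.symm ⟨r, hr⟩ : T).2⟩ : T) : Ω) = r := by
      show ((α (α.symm ⟨r, hr⟩) : T) : Ω) = r
      rw [MulEquiv.apply_symm_apply]
    rw [e1] at hr'
    rw [← hr', ← map_mul, ← map_mul]
    congr 1
    apply Subtype.ext
    show ((α.symm ⟨r, hr⟩ : T) : Ω) * c = c * ((α.symm ⟨r, hr⟩ : T) : Ω)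
    exact (mem_centralizerIn.1 hc).2 _ (α.symm ⟨r, hr⟩ : T).2
  have hψQ : ∀ z : ↥(T ⊔ centralizerIn S T), ψ z ∈ T ⊔ centralizerIn S T := by
    apply wnrtop_sup_mem ψ (T ⊔ centralizerIn S T)
    · intro a ha
      rw [hψT a ha]
      exact (le_sup_left : T ≤ T ⊔ centralizerIn S T) (α ⟨a, ha⟩).2
    · intro b hb
      exact (le_sup_right : centralizerIn S T ≤ T ⊔ centralizerIn S T) (hψC b hb)
  haveI : Finite ↥(T ⊔ centralizerIn S T) :=
    Finite.of_injective (Subgroup.inclusion hQS) (Subgroup.inclusion_injective _)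
  have hrange : ψ.range = T ⊔ centralizerIn S T := by
    have hle : ψ.range ≤ T ⊔ centralizerIn S T := by
      rintro _ ⟨z, rfl⟩; exact hψQ z
    apply Subgroup.eq_of_le_of_card_ge hle
    have hinj : Function.Injective ψ := F.injective_of_mem hψ
    rw [Nat.card_congr (MonoidHom.ofInjective hinj).toEquiv.symm]
  obtain ⟨β, hβ, hβv⟩ := aut_of_range_eq F hψ hrange
  refine ⟨β, hβ, fun x => ?_, fun c hc => ?_⟩
  · rw [hβv]
    exact hψext x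
  · rw [hβv]
    refine Subgroup.mem_inf.2 ⟨hψc c hc, ?_⟩
    have h1 : ψ c ∈ centralizerIn S T := hψC c.1 hc
    exact Subgroup.mul_mem _ (Subgroup.inv_mem _ hc.2) h1.2

end Cfsg.Agent.Helper25.WNR
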