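import Mathlib
import Cfsg.Agent.Lib.WNR.WNRLift
import Cfsg.Agent.Lib.Helper25.FusionPrimeIndex

/-!
# S5141 piece WNR-RES: `Aut_{F|T}(T) = Aut_F(T)`
RECIPE. `mem_autGroup_iff (resSys F T hTS) le_rfl α`, `mem_resSys` (`Lib/Helper26/FusionRestrict.lean`), `mem_autGroup_iff F hTS α`; the values of
`T.subtype.comp α.toMonoidHom` lie in `T` (`Subtype.property`).  Aux names: prefix `wnrres_`.
-/

set_option autoImplicit false

namespace Cfsg.Agent.Helper25.WNR

open Cfsg Cfsg.FusionSystem Cfsg.Agent.Helper25 Cfsg.Agent.Helper26 Cfsg.Agent.Helper3.PPrimeRes Cfsg.Agent.Helper25.OPE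

variable {Ω : Type*} [Group Ω] {S : Subgroup Ω}

theorem mem_autGroup_resSys (F : FusionSystem S) {T : Subgroup Ω} (hTS : T ≤ S) (α : MulAut T) :
    α ∈ (resSys F T hTS).autGroup T ↔ α ∈ F.autGroup T := by
  rw [mem_autGroup_iff (resSys F T hTS) le_rfl α, mem_autGroup_iff F hTS α]
  constructor
  · intro h
    exact h.1
  · intro h
    exact ⟨h, le_rfl, fun x => (α x).2⟩

end Cfsg.Agent.Helper25.WNR
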