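import Mathlib
import Cfsg.Agent.Lib.WNR.WNRRes
import Cfsg.Agent.Lib.Helper25.FusionPrimeIndex2
import Cfsg.Agent.Lib.Helper25.FusionTransport

/-!
# S5141 piece WNR-INVOP: `O^{p'}(Aut_E(P))` lies in the `Aut_F(T)`-invariant core of `minSys E p`, for `E`-centric `P`
`invCore (resSys F T hTS) X` (`Lib/Helper25/FusionPrimeIndex.lean`): the maps of `X` all of whose `Aut_F(T)`-conjugates are maps of `X`.
RECIPE. Copy `Helper25.OpPrime_le_invCore_autGroup` (`Lib/Helper25/FusionPrimeIndex2.lean`, end of file) with these changes: generators `γ ∈ E.autGroup P`,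
`orderOf γ = p ^ k`; first component `(adm_minSys E p).op P hPc (mem_OpPrime_of_orderOf E hγA hk)`.  For `InvPr`: `α ∈ (resSys F T hTS).autGroup T`, so
`α ∈ F.autGroup T` (`mem_autGroup_resSys`).  `MulAut.congr (autRestr hP α) γ ∈ E.autGroup (αP)`: `hSI := strongInv_of_isInvariantIn hEinv`,
`hSI.conj hTS hα hPT ((mem_autGroup_iff E hPT γ).mp hγA)` gives `χ ∈ E.Hom (αP)` with `χ (α x) = α (γ x)`; the underlying hom of the `MulAut.congr` equals `χ`
(`MonoidHom.ext`, every element of `αP` is `α x`: `mem_map_aut_iff`), then `mem_autGroup_iff E (map_aut_le α P)`.  Its order is `p ^ k`.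
`αP` is `E`-centric: `OPE.isCentric_resSys F hTS E hEinv hPc`, `isCentric_of_isConj (resSys F T hTS) _ (isConj_map_aut (resSys F T hTS) hPT hα')`, then
`OPE.isCentric_of_resSys F hTS E hEinv.1`.  So it lies in `OpPrime E p (αP) ≤ (minSys E p).autGroup (αP)` (`(adm_minSys E p).op`).  Values as in the template.
Aux names: prefix `wnrinvop_`.
-/

set_option autoImplicit false

namespace Cfsg.Agent.Helper25.WNR

open Cfsg Cfsg.FusionSystem Cfsg.Agent.Helper25 Cfsg.Agent.Helper26 Cfsg.Agent.Helper3.PPrimeRes Cfsg.Agent.Helper25.OPE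

variable {Ω : Type*} [Group Ω] {S : Subgroup Ω}

theorem opPrime_le_invCore (F : FusionSystem S) {T : Subgroup Ω} (hTS : T ≤ S) (E : FusionSystem T)
    (p : ℕ) (hEinv : E.IsInvariantIn F) {P : Subgroup Ω} (hPc : E.IsCentric P) :
    OpPrime E p P ≤ (invCore (resSys F T hTS) (minSys E p)).autGroup P := by
  have hPT : P ≤ T := hPc.1
  rw [OpPrime_eq_closure]
  apply (Subgroup.closure_le _).mpr
  rintro γ ⟨hγA, k, hk⟩
  show γ ∈ (invCore (resSys F T hTS) (minSys E p)).autGroup P
  rw [mem_autGroup_iff (invCore (resSys F T hTS) (minSys E p)) hPT]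
  refine ⟨(mem_autGroup_iff (minSys E p) hPT γ).mp
    ((adm_minSys E p).op P hPc (mem_OpPrime_of_orderOf E hγA hk)), ?_⟩
  intro α hα hP' hφS
  have hαF : α ∈ F.autGroup T := (mem_autGroup_resSys F hTS α).mp hα
  have hSI := strongInv_of_isInvariantIn hEinv
  obtain ⟨χ, hχ, hχv⟩ := hSI.conj hTS hαF hPT ((mem_autGroup_iff E hPT γ).mp hγA)
  have hγ' : MulAut.congr (autRestr hPT α) γ ∈
      E.autGroup ((P.subgroupOf T).map (T.subtype.comp α.toMonoidHom)) := by
    rw [mem_autGroup_iff E (map_aut_le α P)]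
    have e : ((P.subgroupOf T).map (T.subtype.comp α.toMonoidHom)).subtype.comp
        (MulAut.congr (autRestr hPT α) γ).toMonoidHom = χ := by
      apply MonoidHom.ext
      rintro ⟨y, hy⟩
      obtain ⟨x, rfl⟩ := (mem_map_aut_iff hPT α).mp hy
      rw [hχv x]
      show (((autRestr hPT α) (γ ((autRestr hPT α).symm ⟨_, _⟩)) :
        ↥((P.subgroupOf T).map (T.subtype.comp α.toMonoidHom))) : Ω) = _
      have e' : (⟨((α ⟨x, hPT x.2⟩ : T) : Ω), hy⟩ :
          ↥((P.subgroupOf T).map (T.subtype.comp α.toMonoidHom))) = autRestr hPT α x :=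
        Subtype.ext rfl
      rw [e', MulEquiv.symm_apply_apply]
      rfl
    rw [e]
    exact hχ
  have hord : orderOf (MulAut.congr (autRestr hPT α) γ) = p ^ k := by
    rw [← hk]
    exact MulEquiv.orderOf_eq (MulAut.congr (autRestr hPT α)) γ
  have hc1 := isCentric_resSys F hTS E hEinv hPc
  have hc2 := isCentric_of_isConj (resSys F T hTS) hc1 (isConj_map_aut (resSys F T hTS) hPT hα)
  have hc' := isCentric_of_resSys F hTS E hEinv.1 hc2
  have h1 := (adm_minSys E p).op _ hc' (mem_OpPrime_of_orderOf E hγ' hord)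
  refine ⟨_, (mem_autGroup_iff (minSys E p) (map_aut_le α P) _).mp h1, fun x => ?_⟩
  show (((autRestr hPT α) (γ ((autRestr hPT α).symm ⟨_, _⟩)) :
    ↥((P.subgroupOf T).map (T.subtype.comp α.toMonoidHom))) : Ω) = _
  have e : (⟨((α ⟨x, hP' x.2⟩ : T) : Ω), mem_map_aut hP' α x⟩ :
      ↥((P.subgroupOf T).map (T.subtype.comp α.toMonoidHom))) = autRestr hPT α x := Subtype.ext rfl
  rw [e, MulEquiv.symm_apply_apply]
  rfl

end Cfsg.Agent.Helper25.WNR
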