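import Mathlib
import Cfsg.Agent.Lib.WNR.WNRInvOp
import Cfsg.Agent.Lib.PIX.PIXInv

/-!
# S5141 piece WNR-INVC: the `Aut_F(T)`-invariant core of `minSys E p` is admissible in `E`
RECIPE. Copy `Helper3.PIX.admH_invCore` (`Lib/PIX/PIXInv.lean`; this file imports it) with `F0 …` replaced by `minSys E p`, the ambient `F` of `invCore` replaced by
`resSys F T hTS`, `AdmH` by `Adm E p`, `HH`-membership by `E.IsCentric`:
* `le`: `invCore_le` then `(adm_minSys E p).le`.
* `op`: `opPrime_le_invCore F hTS E p hEinv hPc`.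
* `ext R ψ hψ P hPR hPc h`: `ψ ∈ (minSys E p).Hom R` by `(adm_minSys E p).ext … (invCore_le _ _ h)`.  `InvPr`: for `α ∈ (resSys F T hTS).autGroup T` (so `α ∈ F.autGroup T`):
  the conjugate `χ` of `ψ` on `αR` with `χ (α x) = α (ψ x)` is a map of `E` (`(strongInv_of_isInvariantIn hEinv).conj hTS hα hRT hψ`); its restriction to `αP ≤ αR`
  equals the `χ'` given by `h.2 α _ …` (same values), which is in `minSys`; `αP` is `E`-centric (as in WNR-INVOP); `(adm_minSys E p).ext` gives `χ ∈ (minSys E p).Hom (αR)`.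
Aux names: prefix `wnrinvc_`.
-/

set_option autoImplicit false

namespace Cfsg.Agent.Helper25.WNR

open Cfsg Cfsg.FusionSystem Cfsg.Agent.Helper25 Cfsg.Agent.Helper26 Cfsg.Agent.Helper3.PPrimeRes Cfsg.Agent.Helper25.OPE

variable {Ω : Type*} [Group Ω] {S : Subgroup Ω}

theorem adm_invCore (F : FusionSystem S) {T : Subgroup Ω} (hTS : T ≤ S) (E : FusionSystem T) (p : ℕ)
    (hEinv : E.IsInvariantIn F) : Adm E p (invCore (resSys F T hTS) (minSys E p)) := by
  have hadm := adm_minSys E p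
  refine ⟨?_, ?_, ?_⟩
  · -- le
    intro P φ hφ
    exact hadm.le P (invCore_le _ _ hφ)
  · -- op
    intro P hPc
    exact opPrime_le_invCore F hTS E p hEinv hPc
  · -- ext
    intro R ψ hψ P hPR hPc h
    have hψ0 : ψ ∈ (minSys E p).Hom R := hadm.ext R ψ hψ P hPR hPc (invCore_le _ _ h)
    refine ⟨hψ0, ?_⟩
    intro α hα hR hψT
    have hα' : α ∈ F.autGroup T := (mem_autGroup_resSys F hTS α).mp hα
    have hPT : P ≤ T := hPc.1
    obtain ⟨χ, hχ, hχv⟩ := (strongInv_of_isInvariantIn hEinv).conj hTS hα' hR hψ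
    refine ⟨χ, ?_, hχv⟩
    have hle : (P.subgroupOf T).map (T.subtype.comp α.toMonoidHom) ≤
        (R.subgroupOf T).map (T.subtype.comp α.toMonoidHom) := by
      intro y hy
      obtain ⟨x, rfl⟩ := (mem_map_aut_iff hPT α).mp hy
      exact mem_map_aut hR α (Subgroup.inclusion hPR x)
    have hαPc : E.IsCentric ((P.subgroupOf T).map (T.subtype.comp α.toMonoidHom)) :=
      OPE.isCentric_of_resSys F hTS E hEinv.1
        (isCentric_of_isConj (resSys F T hTS) (OPE.isCentric_resSys F hTS E hEinv hPc)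
          (isConj_map_aut (resSys F T hTS) hPT hα))
    refine hadm.ext _ χ hχ _ hle hαPc ?_
    obtain ⟨χ', hχ', hχ'v⟩ := h.2 α hα hPT (fun x => hψT _)
    have heq : χ.comp (Subgroup.inclusion hle) = χ' := by
      ext ⟨y, hy⟩
      obtain ⟨x, rfl⟩ := (mem_map_aut_iff hPT α).mp hy
      rw [hχ'v x]
      exact hχv (Subgroup.inclusion hPR x)
    rw [heq]
    exact hχ'

end Cfsg.Agent.Helper25.WNR
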