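import Mathlib
import Cfsg.Agent.Lib.WNR.WNRInvC

/-!
# S5141 piece WNR-WN: a `p'`-residual `D` of `E` is invariant in `F`
RECIPE. `hT := hEinv.2.1`, `hTS := hT.1`, `Finite T` (`finite_of_le_finite hTS`), `hTp := hS.to_le hTS`.
`h1 : D ≤ minSys E p` := `hD.2.2 _ (minSys_isSaturated p hTp E hE) (minSys_facts p hTp E hE).1`;
`h2 : minSys E p ≤ D` := `(minSys_isPPrimeResidual p hTp E hE).2.2 D hD.1 hD.2.1`;
`h3 : minSys E p ≤ invCore (resSys F T hTS) (minSys E p)` := `minSys_le_of_adm (adm_invCore F hTS E p hEinv)`.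
`refine ⟨fun P φ h => hEinv.1 P (hD.2.1.1 P h), hT, ?_, ?_⟩`.
* invariance clause: `φ ∈ D.Hom P`, `α ∈ F.autGroup T`: `(h3 P (h1 P hφ)).2 α ((mem_autGroup_resSys F hTS α).mpr hα) hPT _` gives `χ ∈ (minSys E p).Hom (αP)` with
  `χ (α x) = α (φ x)`; `h2 _ hχ`; the statement wants `∀ x hφx hαx, χ ⟨α x, hαx⟩ = α ⟨φ x, hφx⟩` (proof-irrelevant arguments: `fun x _ _ => hχv x`).
* Frattini clause: `hEinv.2.2.2 P hPT φ hφ` gives `φ x = β (φ₁ x)`, `β ∈ F.autGroup T`, `φ₁ ∈ E.Hom P`; `(minSys_facts p hTp E hE).2.1 P φ₁ hφ₁` gives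
  `φ₁ x = γ (φ₀ x)`, `γ ∈ E.autGroup T`, `φ₀ ∈ (minSys E p).Hom P`; `γ ∈ F.autGroup T` (`mem_autGroup_iff`, `hEinv.1`); answer `β * γ`, `φ₀` (`h2`), `MulAut.mul_apply`.
Aux names: prefix `wnrwn_`.
-/

set_option autoImplicit false

namespace Cfsg.Agent.Helper25.WNR

open Cfsg Cfsg.FusionSystem Cfsg.Agent.Helper25 Cfsg.Agent.Helper26 Cfsg.Agent.Helper3.PPrimeRes Cfsg.Agent.Helper25.OPE

variable {Ω : Type*} [Group Ω] {S : Subgroup Ω}

theorem residual_isInvariantIn [Finite S] (p : ℕ) [Fact p.Prime] (hS : IsPGroup p S)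
    (F : FusionSystem S) {T : Subgroup Ω} (E : FusionSystem T) (hE : E.IsSaturated p)
    (hEinv : E.IsInvariantIn F) (D : FusionSystem T) (hD : E.IsPPrimeResidual p D) :
    D.IsInvariantIn F := by
  have hT := hEinv.2.1
  have hTS : T ≤ S := hT.1
  have : Finite T := finite_of_le_finite hTS
  have hTp : IsPGroup p T := hS.to_le hTS
  have h1 : D.IsSubsystemOf (minSys E p) :=
    hD.2.2 _ (minSys_isSaturated p hTp E hE) (minSys_facts p hTp E hE).1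
  have h2 : (minSys E p).IsSubsystemOf D :=
    (minSys_isPPrimeResidual p hTp E hE).2.2 D hD.1 hD.2.1
  have h3 : (minSys E p).IsSubsystemOf (invCore (resSys F T hTS) (minSys E p)) :=
    minSys_le_of_adm (adm_invCore F hTS E p hEinv)
  refine ⟨fun P φ h => hEinv.1 P (hD.2.1.1 P h), hT, ?_, ?_⟩
  · intro P hPT φ hφ α hα
    have hφm : φ ∈ (minSys E p).Hom P := h1 P hφ
    have hφT : ∀ x, φ x ∈ T := ((minSys E p).le_of_mem hφm).2
    obtain ⟨χ, hχ, hχv⟩ := (h3 P hφm).2 α ((mem_autGroup_resSys F hTS α).mpr hα) hPT hφT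
    exact ⟨χ, h2 _ hχ, fun x _ _ => hχv x⟩
  · intro P hPT φ hφ
    obtain ⟨β, hβ, φ₁, hφ₁, hv1⟩ := hEinv.2.2.2 P hPT φ hφ
    obtain ⟨γ, hγ, φ₀, hφ₀, hv0⟩ := (minSys_facts p hTp E hE).2.1 P φ₁ hφ₁
    have hγF : γ ∈ F.autGroup T :=
      (mem_autGroup_iff F hTS γ).mpr (hEinv.1 T ((mem_autGroup_iff E le_rfl γ).mp hγ))
    refine ⟨β * γ, Subgroup.mul_mem _ hβ hγF, φ₀, h2 P hφ₀, fun x hx => ?_⟩
    have hφ₁T : φ₁ x ∈ T := (E.le_of_mem hφ₁).2 x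
    rw [hv1 x hφ₁T, MulAut.mul_apply]
    congr 2
    exact Subtype.ext (hv0 x hx)

end Cfsg.Agent.Helper25.WNR
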